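import Cfsg.Agent.Lib.Held.P1

/-! # Held type: the action on `R1`, the types `L` and `S` -/

set_option autoImplicit false
set_option maxRecDepth 100000

namespace Cfsg.Lib.Held

open Subgroup Cfsg.Lib.Comp

variable {G : Type*} [Group G] {φ : HH →* G} {x y : G} {α β α' β' : HH}

/-- `g` acts on `R1` as `F` -/
def Act (φ : HH →* G) (g : G) (F : HH → HH) : Prop := ∀ k ∈ R1, F k ∈ R1 ∧ Cj φ g k (F k)
theorem Act.mul {g g' : G} {F F' : HH → HH} (a : Act φ g F) (b : Act φ g' F') : Act φ (g * g') fun k => F (F' k) := fun k hk =>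
  ⟨(a _ (b k hk).1).1, (b k hk).2.comp (a _ (b k hk).1).2⟩
theorem Act.n : Act φ (φ n0) fun k => n0 * k * n0 := fun k hk =>
  ⟨(nR1 k hk).1, .of _ (by rw [mul_assoc, show n0 * n0 = 1 by decide +kernel, mul_one])⟩
theorem Y0.act (h : Y0 φ y α β) (h1 : c3⁻¹ * α * c3 ∈ R1) (h2 : β ∈ R1) : Act φ y (sy α β) := fun k hk =>
  ⟨pw_mem (by simp only [List.forall_mem_cons]; exact ⟨h1, by decide +kernel, by decide +kernel, h2, by decide +kernel, by decide +kernel, by simp⟩) _,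
    (Cj.pw (.cons h.ye (.cons h.yh (.cons h.yz (.cons h.yb (.cons h.yf (.cons h.yi .nil)))))) (b1 k)).cast (R1_eq k hk) rfl⟩
theorem Y0.actx (h : Y0 (φ.comp τ) x α β) : Act φ x ox := fun k hk =>
  ⟨(nR2 _ (nR2 _ (nR1 k hk).2.1).2).1, (h.w (nR1 k hk).2.1).tau (τ_τ k) rfl⟩
theorem Act.pow {g : G} {F : HH → HH} (a : Act φ g F) : ∀ n, Act φ (g ^ n) F^[n]
  | 0 => fun k hk => ⟨hk, by simp [Cj]⟩
  | n + 1 => by rw [pow_succ, Function.iterate_succ]; exact (a.pow n).mul a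
theorem Act.inR1 (hφ : HT φ) {g : G} {F : HH → HH} (a : Act φ g F) (h : ∀ k ∈ [z0, f0, e0, b0], k ∈ R1 ∧ F k = k) : ∃ k ∈ R1, φ k = g := by
  have key : ∀ k ∈ [z0, f0, e0, b0], Cj φ g k k := fun k hk => (a k (h k hk).1).2.cast rfl (h k hk).2
  obtain ⟨k, rfl⟩ := hφ.mem' (key z0 (by simp))
  exact ⟨k, (mem_R1 k).2 ⟨hφ.of_cj (key _ (by simp)), hφ.of_cj (key _ (by simp)), hφ.of_cj (key _ (by simp))⟩, rfl⟩

/-- fusion inside `M` -/
def Fu (φ : HH →* G) (M : Subgroup G) (k l : HH) : Prop := ∃ g ∈ M, Cj φ g k l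
namespace Fu
variable {M : Subgroup G} {k l j : HH}
theorem symm (a : Fu φ M k l) : Fu φ M l k := let ⟨_, h, e⟩ := a; ⟨_, inv_mem h, e.symm⟩
theorem trans (a : Fu φ M k l) (b : Fu φ M l j) : Fu φ M k j := let ⟨_, h, e⟩ := a; let ⟨_, h', e'⟩ := b; ⟨_, mul_mem h' h, e.comp e'⟩
theorem cls (hM : φ.range ≤ M) (k : HH) (j : ℕ) (h : cl k = j) (hj : j < 9) : Fu φ M k (rep j) := symm ⟨_, hM ⟨_, rfl⟩, cls' j h hj⟩
theorem cl (hM : φ.range ≤ M) (h : cl k = cl l ∧ cl l < 9) : Fu φ M k l := (cls hM k _ h.1 h.2).trans (cls hM l _ rfl h.2).symm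
theorem z (a : Fu φ M k z0) : Z φ k := let ⟨_, _, e⟩ := a; ⟨_, e⟩
theorem zz (a : Fu φ M k l) (h : Z φ l) : Z φ k := let ⟨_, _, e⟩ := a; h.of e
theorem tau (a : Fu (φ.comp τ) M k l) {k' l' : HH} (e : τ k = k' ∧ τ l = l') : Fu φ M k' l' := let ⟨_, h, c⟩ := a; ⟨_, h, c.tau e.1 e.2⟩
end Fu

theorem range_tau : (φ.comp τ).range = φ.range := by
  rw [MonoidHom.range_comp, MonoidHom.range_eq_top.2 (Function.RightInverse.surjective τ_τ), ← MonoidHom.range_eq_map]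
theorem Z.tau {k l : HH} (h : Z (φ.comp τ) k) (e : τ k = l) : Z φ l := let ⟨g, c⟩ := h; ⟨g, c.tau e (by decide +kernel)⟩
theorem tau_tau : (φ.comp τ).comp τ = φ := MonoidHom.ext fun k => congrArg φ (τ_τ k)
theorem Z.tau' {k l : HH} (h : Z φ k) (e : τ k = l) : Z (φ.comp τ) l := Z.tau (φ := φ.comp τ) (by rwa [tau_tau]) e

section
variable {M : Subgroup G} (hM : φ.range ≤ M) (hy : y ∈ M)
include hM hy
theorem Y0.fu (h : Y0 φ y α β) : Fu φ M h0 z0 ∧ Fu φ M f0 i0 ∧ Fu φ M j2 t0 :=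
  ⟨⟨y, hy, h.yh⟩, ⟨y, hy, h.yf⟩, (Fu.cl hM (by decide +kernel)).trans (Fu.symm ⟨y, hy, (h.yh.mul h.yi).cast (k' := t0) (l' := v0) (by decide +kernel) (by decide +kernel)⟩)⟩
theorem Y0.fuL (h : Y0 φ y a0 β) : Fu φ M j3 t0 :=
  Fu.trans ⟨y, hy, (h.ye.mul h.yf).cast (l' := e0 * i0) (by decide +kernel) (by decide +kernel)⟩ (.cl hM (by decide +kernel))
theorem Y0.fuS (h : Y0 φ y aS β) : Fu φ M j3 z0 :=
  ((Fu.cl hM (by decide +kernel)).trans (Fu.symm ⟨y, hy, h.ya⟩)).trans ((Fu.cl hM (by decide +kernel)).trans ⟨y, hy, h.yh⟩)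
theorem Y0.fuS' (h : Y0 φ y aS bS) : Fu φ M i0 z0 :=
  (Fu.symm ⟨y, hy, h.yf⟩).trans (((Fu.cl hM (by decide +kernel)).trans ⟨y, hy, h.yb⟩).trans ((Fu.cl hM (by decide +kernel)).trans (h.fuS hM hy)))
end

theorem Y0.mix1 (hφ : HT φ) (h : Y0 φ y a0 bS) : False := by
  have a := h.act (by decide +kernel) (by decide +kernel)
  have w := a.mul (Act.n.mul (a.mul (Act.n.mul a)))
  obtain ⟨k, e⟩ := hφ.mem' ((w z0 (by decide +kernel)).2.cast rfl (by decide +kernel))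
  exact mix k ((hφ.of_cj (e ▸ (w i0 (by decide +kernel)).2)).trans (congrArg (· * k) (by decide +kernel)))
theorem Y0.mix2 (hφ : HT φ) (h : Y0 φ y aS b0) : False :=
  hφ.not_j2 ((((Fu.cl le_top (by decide +kernel)).trans (Fu.symm ⟨y, mem_top y, h.yb.mul h.yh⟩)).trans
    ((Fu.cl le_top (by decide +kernel)).trans (h.fuS le_top (mem_top y)))).z)

/-- the two types -/
def Ty (α β : HH) : Prop := (α = a0 ∧ β = b0) ∨ (α = aS ∧ β = bS)
theorem HT.exTy [Finite G] (hφ : HT φ) (hz : Z φ h0) : ∃ y α β, YD φ y α β ∧ Ty α β := by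
  obtain ⟨y, α, β, h, rfl | rfl, rfl | rfl⟩ := hφ.exYD hz
  exacts [⟨y, _, _, h, .inl ⟨rfl, rfl⟩⟩, (h.mix1 hφ).elim, (h.mix2 hφ).elim, ⟨y, _, _, h, .inr ⟨rfl, rfl⟩⟩]
theorem Y0.act' (h : Y0 φ y α β) (ht : Ty α β) : Act φ y (sy α β) := by
  rcases ht with ⟨rfl, rfl⟩ | ⟨rfl, rfl⟩ <;> exact h.act (by decide +kernel) (by decide +kernel)

theorem YD.ny3 (hφ : HT φ) (h : YD φ y a0 b0) : (φ n0 * y) ^ 3 = 1 := by
  have a := Act.n.mul (h.act (by decide +kernel) (by decide +kernel))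
  obtain ⟨k, hk, e⟩ := (a.pow 3).inR1 hφ (by decide +kernel)
  have c : Commute (φ a0) (φ n0 * y) := Commute.mul_right (Cj.of a0 (by decide +kernel)).eq h.ya.eq.symm
  rcases (fixR k hk).1 ((a k hk).2.uniq hφ (.of_eq (e ▸ ((Commute.refl _).pow_right 3).eq)))
    (hφ.inj (by rw [map_mul, map_mul, e]; exact c.pow_right 3)) with rfl | rfl
  · rw [← e, map_one]
  · exact absurd e.symm (h.not3 hφ)

theorem YD.ny5 (hφ : HT φ) (h : YD φ y aS bS) : (φ n0 * y) ^ 5 = 1 ∨ (φ n0 * y) ^ 5 = φ (b0 * z0) := by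
  have a := Act.n.mul (h.act (by decide +kernel) (by decide +kernel))
  obtain ⟨k, hk, e⟩ := (a.pow 5).inR1 hφ (by decide +kernel)
  have := (fixR k hk).2.1 ((a k hk).2.uniq hφ (.of_eq (e ▸ ((Commute.refl _).pow_right 5).eq)))
  simp only [List.mem_cons, List.not_mem_nil, or_false] at this
  rcases this with rfl | rfl | rfl | rfl
  exacts [.inl (e.symm.trans φ.map_one), .inr e.symm, absurd e.symm (h.not5 hφ).1, absurd e.symm (h.not5 hφ).2]

theorem YD.conjz (h : YD φ y α β) : YD φ (φ z0 * y * φ z0) α β := by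
  have key : ∀ {k l}, Cj φ y k l → Cj φ (φ z0 * y * φ z0) k l := fun {k l} a => by
    simpa only [mul_assoc] using ((Cj.of z0 (z0_comm k).symm).comp a).comp (.of z0 (z0_comm l).symm)
  refine ⟨⟨key h.ya, key h.yb, key h.yc, key h.yh, key h.yz, key h.yf, key h.yi⟩, ?_⟩
  have e : φ d0 * φ z0 = φ z0 * φ d0 := (Cj.ofz d0).eq
  have z2 : φ z0 * φ z0 = 1 := map_sq (by decide +kernel)
  calc _ = φ d0 * φ z0 * y * (φ z0 * φ d0 * φ z0) * y * φ z0 := by simp only [mul_assoc]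
    _ = φ z0 * (φ d0 * y * φ d0 * y) * φ z0 := by rw [e, mul_assoc (φ z0) (φ d0) (φ z0), e, ← mul_assoc (φ z0) (φ z0), z2, one_mul]; simp only [mul_assoc]
    _ = 1 := by rw [h.yd, mul_one, z2]

theorem R1_sq : ∀ k ∈ R1, k * k = 1 ∧ a0 * k * a0 ∈ R1 ∧ (k ∈ R2 → d0 * k * d0 ∈ R2) := by decide +kernel

theorem YD.exC (hφ : HT φ) (hy : YD φ y a0 b0) (hx : YD (φ.comp τ) x a0 b0) : ∃ x, YD (φ.comp τ) x a0 b0 ∧ y * x = x * y := by
  have ay := hy.act (by decide +kernel) (by decide +kernel)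
  have ax := hx.actx
  have ay' : Act (φ.comp τ) y ox := Y0.actx (tau_tau (φ := φ) ▸ hy.toY0)
  have ax' := hx.act (by decide +kernel) (by decide +kernel)
  have y2 : y⁻¹ = y ^ 2 := by rw [sq]; exact inv_eq_of_mul_eq_one_left (hy.y3 hφ)
  have x2 : x⁻¹ = x ^ 2 := by rw [sq]; exact inv_eq_of_mul_eq_one_left (hx.y3 hφ.tau)
  obtain ⟨w, h1, e⟩ := (ay.mul (ax.mul ((y2 ▸ ay.pow 2).mul (x2 ▸ ax.pow 2)))).inR1 hφ (by decide +kernel)
  obtain ⟨w', h2, e'⟩ := (ay'.mul (ax'.mul ((y2 ▸ ay'.pow 2).mul (x2 ▸ ax'.pow 2)))).inR1 hφ.tau (by decide +kernel)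
  have h3 : w ∈ R2 := hφ.inj (e'.trans e.symm) ▸ (nR1 _ h2).2.1
  obtain ⟨w2, h4, h5⟩ := R1_sq w h1
  have wi : φ w = x * y * x⁻¹ * y⁻¹ := by rw [eq_inv_of_mul_eq_one_left (map_sq (φ := φ) w2), e]; group
  have cj : ∀ {c : HH}, c * c = 1 → φ (c * w * c) = MulAut.conj (φ c) (φ w) := fun {c} hc => by
    rw [map_mul, map_mul, MulAut.conj_apply, inv_eq_of_mul_eq_one_left (map_sq hc)]
  have iv : ∀ {c : HH} {g : G}, c * c = 1 → φ c * g * φ c * g = 1 → MulAut.conj (φ c) g = g⁻¹ := fun hc hg => by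
    rw [MulAut.conj_apply, inv_eq_of_mul_eq_one_left (map_sq hc)]; exact eq_inv_of_mul_eq_one_left hg
  have ta : τ a0 = d0 ∧ τ d0 = a0 := by decide +kernel
  have Ay : MulAut.conj (φ a0) y = y := by rw [MulAut.conj_apply, ← hy.ya.eq, mul_inv_cancel_right]
  have Ax : MulAut.conj (φ a0) x = x⁻¹ := iv (by decide +kernel) (ta.2 ▸ hx.yd)
  have Dx : MulAut.conj (φ d0) x = x := by rw [MulAut.conj_apply, ← (hx.ya.tau ta.1 ta.1).eq, mul_inv_cancel_right]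
  have Dy : MulAut.conj (φ d0) y = y⁻¹ := iv (by decide +kernel) hy.yd
  rcases (fixR w h1).2.2.1 h3 ((ax _ h4).2.uniq hφ (by
      rw [Cj, cj (by decide +kernel), wi, ← wi, e]; simp only [map_mul, map_inv, Ay, Ax]; rw [← e, wi]; group))
    ((hy.w (h5 h3)).uniq hφ (by rw [Cj, cj (by decide +kernel), e]; simp only [map_mul, map_inv, Dy, Dx]; rw [← e, wi]; group)) with rfl | rfl
  · refine ⟨x, hx, ?_⟩
    rw [map_one] at wi
    rw [← mul_inv_eq_one, ← inv_eq_one, wi]; group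
  have tz : τ z0 = z0 := by decide +kernel
  refine ⟨_, hx.conjz, ?_⟩
  rw [MonoidHom.comp_apply, tz]
  have e1 := hy.yz.eq
  have e2 : x * φ h0 = φ (f0 * h0) * x := (hx.yi.tau (by decide +kernel) (by decide +kernel)).eq
  have e3 : y * x = φ f0 * x * y := by rw [e]; group
  calc _ = y * φ z0 * x * φ z0 := by simp only [mul_assoc]
    _ = φ (h0 * z0) * φ f0 * x * (y * φ z0) := by rw [e1, mul_assoc _ y, e3, ← e1]; simp only [mul_assoc]
    _ = φ (h0 * z0) * φ f0 * (x * φ h0) * φ z0 * y := by rw [e1, map_mul φ h0 z0]; simp only [mul_assoc]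
    _ = φ (h0 * z0 * f0 * (f0 * h0)) * x * φ z0 * y := by rw [e2]; simp only [map_mul, mul_assoc]
    _ = _ := by rw [show h0 * z0 * f0 * (f0 * h0) = z0 by decide +kernel]

end Cfsg.Lib.Held
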