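import Cfsg.Agent.Lib.BS.Bro
import Cfsg.Agent.Lib.Invol.Classes
import Cfsg.Agent.Lib.Coprime.Generation
import Cfsg.Agent.Lib.Transfer.Frobenius
import Cfsg.Agent.S1913
import Cfsg.Agent.S3289

/-! # Abstract generation lemmas from strong embedding -/

set_option autoImplicit false

namespace Cfsg.Lib.Held

open Subgroup Cfsg.Lib.Transfer Cfsg.Lib.Invol

variable {G : Type*} [Group G] [Finite G]

theorem se_comm {H : Subgroup G} (hH : Cfsg.IsStronglyEmbedded H) {a b : G} (ha : a ∈ H) (hb : b ∈ H)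
    (a2 : a * a = 1) (b2 : b * b = 1) (h4 : (a * b) ^ 4 = 1) : a * b = b * a := by
  have ai := inv_eq_of_mul_eq_one_right a2
  have bi := inv_eq_of_mul_eq_one_right b2
  by_contra hne
  have c1 : a * b * (a * b) ≠ 1 := fun h => hne (by rw [← inv_eq_of_mul_eq_one_right h, mul_inv_rev, ai, bi])
  have c2 : a * b * (a * b) * (a * b * (a * b)) = 1 := by rw [← h4]; simp only [pow_succ, pow_zero, one_mul, mul_assoc]
  have a1 : a ≠ 1 := by rintro rfl; simp at hne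
  have r2 : BS.R2 (⊤ : Subgroup G) := ⟨a, trivial, _, trivial, two_of_mul_self a2 a1, two_of_mul_self c2 c1, fun h => a1 (by
    have : b * a * b = 1 := mul_left_cancel (a := a) (by rw [mul_one]; exact (h.trans (by simp only [mul_assoc])).symm)
    simpa [← mul_assoc, b2, mul_assoc a] using congrArg (fun x => b * x * b) this), by
    have : a * (a * b * (a * b)) * a⁻¹ = (a * b * (a * b))⁻¹ := by
      simp only [mul_inv_rev, ai, bi, ← mul_assoc, a2, one_mul]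
    rw [inv_eq_of_mul_eq_one_right c2, mul_inv_eq_iff_eq_mul] at this
    exact this⟩
  obtain ⟨Q, t, h, -, hr⟩ := BS.bro.quot hH r2
  have k := h.commute_twos hr (BS.two_map _ BS.oq_odd (two_of_mul_self a2 a1)) (mem_map_of_mem _ ha)
    (v := BS.oq G b) (by rw [← map_mul, b2, map_one]) (mem_map_of_mem _ hb)
  refine ne_one_of_two (BS.two_map _ BS.oq_odd (two_of_mul_self c2 c1)) ?_
  rw [map_mul, map_mul, mul_assoc, ← mul_assoc (BS.oq G b), ← k.eq, ← mul_assoc, ← mul_assoc, ← map_mul, a2, map_one,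
    one_mul, ← map_mul, b2, map_one]

theorem cent_le_of_lifts {M S A : Subgroup G} {Z : Set G} (hZ : ∀ x ∈ Z, ∀ g : G, g * x * g⁻¹ ∈ Z)
    (h2 : ∀ x ∈ Z, x ∈ M → ∀ g : G, g * x * g⁻¹ ∈ M → g ∈ M) (hS : SylowIn 2 S (centralizer (A : Set G))) (hAS : A ≤ S)
    (hSM : S ≤ M) (hl : ∀ y ∈ S, y * y ∈ A → y ∈ A ∨ ∃ a ∈ A, y * a ∈ Z) {p q : G} (hp : p ∈ S) (hq : q ∈ S)
    (p2 : p * p ∈ A) (q2 : q * q ∈ A) (h4 : (p * q) ^ 4 ∈ A) (hpq : p * q * p⁻¹ * q⁻¹ ∉ A) :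
    centralizer (A : Set G) ≤ M := by
  by_contra hne
  have hc : ∀ y ∈ centralizer (A : Set G), ∀ a ∈ A, y * a * y⁻¹ = a := fun y hy a ha => conj_eq_of_mem_centralizer hy ha
  generalize centralizer (A : Set G) = Y at *
  have : (A.subgroupOf Y).Normal := ⟨fun a ha g => by simpa [mem_subgroupOf, hc g g.2 a ha] using ha⟩
  have k1 : ∀ y : Y, QuotientGroup.mk' (A.subgroupOf Y) y = 1 ↔ (y : G) ∈ A := fun y => QuotientGroup.eq_one_iff y
  have ks := QuotientGroup.mk'_surjective (A.subgroupOf Y)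
  generalize QuotientGroup.mk' (A.subgroupOf Y) = π at k1 ks
  have k2 : ∀ y : Y, π y ∈ (M.subgroupOf Y).map π ↔ (y : G) ∈ M := fun y => ⟨fun ⟨x, hx, e⟩ => by
    have := hSM (hAS ((k1 (x⁻¹ * y)).1 (by rw [map_mul, map_inv, e, inv_mul_cancel])))
    simpa using M.mul_mem hx this, fun h => mem_map_of_mem _ h⟩
  have pA : p ∉ A := fun h => hpq (by
    rw [mul_assoc, mul_assoc, ← mul_assoc q, hc q (hS.le hq) _ (A.inv_mem h), mul_inv_cancel]; exact A.one_mem)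
  have hH : Cfsg.IsStronglyEmbedded ((M.subgroupOf Y).map π) := stronglyEmbedded_iff.2 ⟨fun h => hne fun y hy =>
    (k2 ⟨y, hy⟩).1 (h ▸ mem_top _), Nat.not_odd_iff_even.1 fun h => odd_card_iff.1 h (π ⟨p, hS.le hp⟩) ((k2 _).2 (hSM hp))
      (two_of_mul_self (by rw [← map_mul, k1]; exact p2) fun h => pA ((k1 _).1 h)), fun t g ht h1 h3 => by
    obtain ⟨y, rfl⟩ := ks t
    obtain ⟨g, rfl⟩ := ks g
    rw [← map_inv, ← map_mul, ← map_mul] at h3
    rw [k2] at h1 h3 ⊢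
    have y2 : (y : G) * y ∈ A := (k1 (y * y)).1 (by rw [map_mul, mul_self_of_two ht])
    have y1 : (y : G) ∉ A := fun h => ne_one_of_two ht ((k1 y).2 h)
    obtain ⟨k, hk⟩ := hS.isPGroup ⟨_, hAS y2⟩
    obtain ⟨h, h5, h6⟩ := hS.exists_cj_le (Q := zpowers (y : G)) (IsPGroup.of_card (n := (orderOf (y : G)).factorization 2) (by
      have : orderOf (y : G) ∣ 2 ^ (k + 1) := orderOf_dvd_of_pow_eq_one (by
        rw [pow_succ', pow_mul, sq]; exact congrArg Subtype.val hk)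
      obtain ⟨j, -, hj⟩ := (Nat.dvd_prime_pow Nat.prime_two).1 this
      simp [hj, Nat.Prime.factorization_self Nat.prime_two])) (zpowers_le.2 y.2)
    obtain h7 | ⟨a, ha, h7⟩ := hl _ (cj_le_iff.1 h6 _ (mem_zpowers _)) (by
      rw [conj_mul, hc h h5 _ y2]; exact y2)
    · rw [← hc _ (Y.inv_mem h5) _ h7] at h7
      exact (y1 (by simpa [mul_assoc] using h7)).elim
    have h8 := hZ _ h7 h⁻¹
    rw [← hc h h5 a ha, conj_mul] at h8
    refine h2 (y * a) (by simpa [mul_assoc] using h8) (M.mul_mem h1 (hSM (hAS ha))) g ?_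
    rw [← conj_mul, hc g g.2 a ha]
    exact M.mul_mem h3 (hSM (hAS ha))⟩
  have := se_comm hH ((k2 ⟨p, hS.le hp⟩).2 (hSM hp)) ((k2 ⟨q, hS.le hq⟩).2 (hSM hq)) (by rw [← map_mul, k1]; exact p2)
    (by rw [← map_mul, k1]; exact q2) (by rw [← map_mul, ← map_pow, k1]; exact h4)
  exact hpq ((k1 (⟨p, hS.le hp⟩ * ⟨q, hS.le hq⟩ * ⟨p, hS.le hp⟩⁻¹ * ⟨q, hS.le hq⟩⁻¹)).1 (by
    simp only [map_mul, map_inv, this]; group))

theorem le_of_selfnorm {Y R M : Subgroup G} (hR : R ≤ Y) (h2 : IsPGroup 2 R) (hc : ∀ a ∈ R, ∀ b ∈ R, a * b = b * a)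
    (hN : Y ⊓ normalizer (R : Set G) ≤ R) (hRM : R ≤ M) {u v : G} (hu : u ∈ R) (hv : v ∈ R) (u2 : orderOf u = 2)
    (v2 : orderOf v = 2) (huv : u ≠ v) (cu : centralizer {u} ≤ M) (cv : centralizer {v} ≤ M)
    (cuv : centralizer {u * v} ≤ M) : Y ≤ M := by
  have hS : SylowIn 2 R Y := sylowIn_of_maximal hR h2 fun Q hQ h1 h3 => by_contra fun h =>
    (lt_inf_normalizer hQ (lt_of_le_not_ge h1 h)).not_ge ((inf_le_inf_right _ h3).trans hN)
  have hP := hS.pnil_of_normalizer_le_centralizer (hN.trans fun a ha b hb => hc b hb a ha)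
  have hE : closure {u, v} ≤ R := (closure_le _).2 (by rintro _ (rfl | rfl) <;> assumption)
  have hK := isKleinFour_closure u2 v2 huv (hc u hu v hv)
  have : IsMulCommutative (closure ({u, v} : Set G)) := ⟨⟨fun a b => Subtype.ext (hc _ (hE a.2) _ (hE b.2))⟩⟩
  rw [← hS.resOf_sup]
  refine sup_le (Coprime.le_of_forall_centralizer_le (A := closure {u, v}) IsKleinFour.not_isCyclic
    (hE.trans (hR.trans (le_normalizer_resOf Y))) (by
      rw [hK.card_four]; exact (Nat.Coprime.pow_right 2 hP.coprime).symm) fun a ha a1 => inf_le_right.trans ?_) hRM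
  by_cases h3 : a = u
  · rwa [h3]
  by_cases h4 : a = v
  · rwa [h4]
  have := IsKleinFour.eq_mul_of_ne_all (G := closure ({u, v} : Set G)) (x := ⟨u, subset_closure (by simp)⟩)
    (y := ⟨v, subset_closure (by simp)⟩) (z := ⟨a, ha⟩) (by simpa using ne_one_of_two u2)
    (by simpa using ne_one_of_two v2) (by simpa using huv) (by simpa using a1) (by simpa using h3) (by simpa using h4)
  rwa [show a = u * v from congrArg Subtype.val this]

theorem top_or_se {M S : Subgroup G} {z : G} (z2 : orderOf z = 2) (hS : SylowIn 2 S ⊤) (hz : z ∈ S)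
    (hzc : ∀ s ∈ S, s * z = z * s) (hzM : z ∈ M) (h2 : ∀ g : G, g * z * g⁻¹ ∈ M → g ∈ M)
    (hii : ∀ u : G, orderOf u = 2 → u * z = z * u → centralizer {u} ≤ M) :
    M = ⊤ ∨ Cfsg.IsStronglyEmbedded (M.subgroupOf (normalClosure ({z} : Set G))) := by
  refine or_iff_not_imp_left.2 fun hM => ?_
  obtain ⟨P, rfl⟩ := hS.exists_sylow_top
  exact Agent.S1913.result P z z2 ⟨⟨z, hz⟩, mem_center_iff.2 fun s => Subtype.ext (hzc s s.2), rfl⟩ M hM
    (fun g => mem_cj.trans ⟨fun h => M.inv_mem_iff.1 (h2 _ (by rwa [inv_inv])), fun h =>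
      M.mul_mem (M.mul_mem (M.inv_mem h) hzM) h⟩) fun u h1 h3 h4 => (h4 (hii u h1 h3)).elim

theorem top_or_conj {M S : Subgroup G} {z : G} (z2 : orderOf z = 2) (hS : SylowIn 2 S ⊤) (hz : z ∈ S)
    (hzc : ∀ s ∈ S, s * z = z * s) (hzM : z ∈ M) (h2 : ∀ g : G, g * z * g⁻¹ ∈ M → g ∈ M)
    (hii : ∀ u : G, orderOf u = 2 → u * z = z * u → centralizer {u} ≤ M) :
    M = ⊤ ∨ ∀ a ∈ normalClosure ({z} : Set G), orderOf a = 2 → IsConj z a :=
  (top_or_se z2 hS hz hzc hzM h2 hii).imp_right fun h a ha a2 =>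
    ((normalClosure ({z} : Set G)).subtype.map_isConj (se_isConj h (a := ⟨z, subset_normalClosure rfl⟩) (b := ⟨a, ha⟩)
      (by rwa [← orderOf_coe]) (by rwa [← orderOf_coe])) :)

theorem cent_inv_le {M S : Subgroup G} {t z : G} (t2 : orderOf t = 2) (z2 : z * z = 1) (hzt : z ∉ zpowers t)
    (hS : SylowIn 2 S (centralizer {t})) (hz : z ∈ S) (hzc : ∀ s ∈ S, s * z = z * s) (hSM : S ≤ M)
    (h2 : ∀ g : G, g * z * g⁻¹ ∈ M → g ∈ M)
    (hii : ∀ u : G, u * t = t * u → u * u ∈ zpowers t → u ∉ zpowers t → (u * z = z * u ∨ u * z = z * u * t) →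
      ∀ g : G, g * t = t * g → (g * u * g⁻¹ = u ∨ g * u * g⁻¹ = u * t) → g ∈ M) :
    centralizer {t} ≤ M ∨ ∃ K : Subgroup G, t ∈ K ∧ z ∈ K ∧ K ≤ centralizer {t} ∧
      (∀ g : G, g * t = t * g → ∀ k ∈ K, g * k * g⁻¹ ∈ K) ∧
      ∀ a ∈ K ⊓ M, ∀ b ∈ K ⊓ M, a * a ∈ zpowers t → a ∉ zpowers t → b * b ∈ zpowers t → b ∉ zpowers t →
        ∃ g ∈ K ⊓ M, g * a * g⁻¹ = b ∨ g * a * g⁻¹ = b * t := by
  have hY : ∀ g, g ∈ centralizer {t} ↔ g * t = t * g := fun g => mem_centralizer_singleton_iff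
  generalize centralizer {t} = Y at *
  have hc : ∀ y ∈ Y, ∀ a ∈ zpowers t, y * a * y⁻¹ = a := by
    rintro y hy _ ⟨k, rfl⟩
    rw [(Commute.zpow_right ((hY y).1 hy) k).eq, mul_inv_cancel_right]
  have tY := zpowers_le.2 ((hY t).2 rfl)
  have tM : zpowers t ≤ M := (hS.le_of_le_normalizer (IsPGroup.of_card (n := 1) (by simp [t2])) tY
    fun s hs => mem_normalizer_of_cj_le (cj_le_iff.2 fun a ha => (hc s (hS.le hs) a ha).symm ▸ ha)).trans hSM
  have : ((zpowers t).subgroupOf Y).Normal := ⟨fun a ha g => by simpa [mem_subgroupOf, hc g g.2 a ha] using ha⟩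
  have k1 : ∀ y : Y, QuotientGroup.mk' ((zpowers t).subgroupOf Y) y = 1 ↔ (y : G) ∈ zpowers t :=
    fun y => QuotientGroup.eq_one_iff y
  have ks := QuotientGroup.mk'_surjective ((zpowers t).subgroupOf Y)
  generalize QuotientGroup.mk' ((zpowers t).subgroupOf Y) = π at k1 ks
  have k2 : ∀ y : Y, π y ∈ (M.subgroupOf Y).map π ↔ (y : G) ∈ M := fun y => ⟨fun ⟨x, hx, e⟩ => by
    have := tM ((k1 (x⁻¹ * y)).1 (by rw [map_mul, map_inv, e, inv_mul_cancel]))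
    simpa using M.mul_mem hx this, fun h => mem_map_of_mem _ h⟩
  have k3 : ∀ x y : Y, π x = π y → (x : G) = y ∨ (x : G) = y * t := fun x y e => by
    obtain ⟨k, hk⟩ := (k1 (y⁻¹ * x)).1 (by rw [map_mul, map_inv, e, inv_mul_cancel])
    have h3 : t ^ (2 : ℤ) = 1 := by rw [zpow_two, mul_self_of_two t2]
    rcases Int.even_or_odd' k with ⟨m, rfl | rfl⟩
    · simp only [zpow_mul, h3, one_zpow] at hk
      exact .inl (inv_mul_eq_one.1 hk.symm).symm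
    · simp only [zpow_add, zpow_mul, h3, one_zpow, one_mul, zpow_one] at hk
      exact .inr (by rw [hk]; simp)
  have k4 : ∀ x : Y, orderOf (π x) = 2 ↔ (x : G) * x ∈ zpowers t ∧ (x : G) ∉ zpowers t := fun x =>
    ⟨fun h => ⟨(k1 (x * x)).1 (by rw [map_mul, mul_self_of_two h]), fun h3 => ne_one_of_two h ((k1 x).2 h3)⟩,
      fun h => two_of_mul_self (by rw [← map_mul, k1]; exact h.1) fun h3 => h.2 ((k1 x).1 h3)⟩
  have hS' : SylowIn 2 ((S.subgroupOf Y).map π) ⊤ := by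
    simpa [← MonoidHom.range_eq_map, MonoidHom.range_eq_top.2 ks, SylowIn.coe_toSylow] using
      (sylowIn_top hS.toSylow).map π
  refine Or.imp (fun h y hy => (k2 ⟨y, hy⟩).1 (h.ge (mem_top _))) (fun h => ?B) (top_or_se (M := (M.subgroupOf Y).map π) (z := π ⟨z, hS.le hz⟩) ((k4 _).2 ⟨by simp [z2], hzt⟩) hS'
    (mem_map_of_mem _ hz) ?_ ((k2 _).2 (hSM hz)) (fun g hg => ?_) fun u u2 hu g hg => ?_)
  rotate_left
  · rintro _ ⟨s, hs, rfl⟩
    rw [← map_mul, ← map_mul]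
    exact congrArg π (Subtype.ext (hzc s hs))
  · obtain ⟨g, rfl⟩ := ks g
    rw [← map_inv, ← map_mul, ← map_mul, k2] at hg
    exact (k2 g).2 (h2 g hg)
  · obtain ⟨g, rfl⟩ := ks g
    obtain ⟨u, rfl⟩ := ks u
    rw [mem_centralizer_singleton_iff, ← mul_inv_eq_iff_eq_mul, ← map_inv, ← map_mul, ← map_mul] at hg
    rw [← map_mul, ← map_mul] at hu
    exact (k2 g).2 (hii u ((hY u).1 u.2) ((k4 u).1 u2).1 ((k4 u).1 u2).2 (k3 _ _ hu) g ((hY g).1 g.2) (k3 _ _ hg))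
  have hn : (normalClosure {π ⟨z, hS.le hz⟩}).Normal := inferInstance
  have hm : π ⟨z, hS.le hz⟩ ∈ normalClosure {π ⟨z, hS.le hz⟩} := subset_normalClosure rfl
  generalize normalClosure {π ⟨z, hS.le hz⟩} = N at h hn hm
  refine ⟨(N.comap π).map Y.subtype, ⟨⟨t, tY (mem_zpowers t)⟩, by
    rw [SetLike.mem_coe, mem_comap, (k1 _).2 (mem_zpowers t)]; exact N.one_mem, rfl⟩, ⟨_, hm, rfl⟩, map_subtype_le _,
    ?_, ?_⟩
  · rintro g hg _ ⟨k, hk, rfl⟩
    exact ⟨⟨g, (hY g).2 hg⟩ * k * ⟨g, (hY g).2 hg⟩⁻¹, (hn.comap π).conj_mem _ hk _, rfl⟩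
  rintro _ ⟨⟨a, ha, rfl⟩, a1⟩ _ ⟨⟨b, hb, rfl⟩, b1⟩ a2 a3 b2 b3
  obtain ⟨⟨g, g1⟩, g2, g3⟩ := se_exists_conj h (a := ⟨π a, ha⟩) (b := ⟨π b, hb⟩)
    (by rw [← orderOf_coe]; exact (k4 a).2 ⟨a2, a3⟩) (by rw [← orderOf_coe]; exact (k4 b).2 ⟨b2, b3⟩)
    ((k2 a).2 a1) ((k2 b).2 b1)
  obtain ⟨g, rfl⟩ := ks g
  exact ⟨g, ⟨⟨g, g1, rfl⟩, (k2 g).1 g2⟩, k3 (g * a * g⁻¹) b (by simpa using congrArg Subtype.val g3)⟩

theorem top_of_sc {S V : Subgroup G} (hS : SylowIn 2 S ⊤) (hV : V ≤ S) (hV1 : V ≠ ⊥)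
    (hsc : ∀ x ∈ V, ∀ g : G, g * x * g⁻¹ ∈ S → g * x * g⁻¹ ∈ V)
    (e2 : ∀ x ∈ V, x * x = 1) (hC : ∀ x ∈ V, x ≠ 1 → centralizer {x} ≤ normalizer (V : Set G)) :
    normalizer (V : Set G) = ⊤ ∨ ∃ N : Subgroup G, V ≤ N ∧ N ≤ normalizer (V : Set G) ∧
      (∀ g ∈ normalizer (V : Set G), ∀ k ∈ N, g * k * g⁻¹ ∈ N) ∧
      (∀ a ∈ N, ∀ b ∈ N, orderOf a = 2 → orderOf b = 2 → ∃ g ∈ N, g * a * g⁻¹ = b) ∧
      ∀ a ∈ N, ∀ b ∈ N, a * a = 1 → b * b = 1 → (a * b) ^ 4 = 1 → a * b = b * a := by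
  refine or_iff_not_imp_left.2 fun hM => ?_
  obtain ⟨P, rfl⟩ := hS.exists_sylow_top
  have hΩ : Cfsg.omegaOne 2 V = V := le_antisymm ((closure_le _).2 fun x hx => hx.1)
    fun x hx => subset_closure ⟨hx, (sq x).trans (e2 x hx)⟩
  have h := (Agent.S3289.result P V hV1 ⟨hV, hsc⟩ _ hM hC (by rw [hΩ])).1
  have hn : (normalClosure (V : Set G)).Normal := inferInstance
  have hle : V ≤ normalClosure (V : Set G) := fun x hx => subset_normalClosure hx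
  generalize normalClosure (V : Set G) = X at h hn hle
  refine ⟨_ ⊓ X, le_inf le_normalizer hle, inf_le_left, fun g hg k hk => ⟨Subgroup.mul_mem _ (Subgroup.mul_mem _ hg hk.1) (Subgroup.inv_mem _ hg),
    hn.conj_mem _ hk.2 _⟩, fun a ha b hb a2 b2 => ?_, fun a ha b hb a2 b2 h4 => congrArg Subtype.val
      (se_comm h (a := ⟨a, ha.2⟩) (b := ⟨b, hb.2⟩) ha hb (Subtype.ext a2) (Subtype.ext b2) (Subtype.ext h4))⟩
  obtain ⟨g, g1, g2⟩ := se_exists_conj h (a := ⟨a, ha.2⟩) (b := ⟨b, hb.2⟩) (by rwa [← orderOf_coe])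
    (by rwa [← orderOf_coe]) ha hb
  exact ⟨g, g1, congrArg Subtype.val g2⟩

end Cfsg.Lib.Held
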