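import Cfsg.Agent.Lib.Held.F1
import Cfsg.Agent.Lib.Transfer.Apps

/-! # Held type: conjugation calculus, non-fusion, Sylow subgroups -/

set_option autoImplicit false
set_option maxRecDepth 100000

namespace Cfsg.Lib.Held

open Subgroup Cfsg.Lib.Transfer

variable {G : Type*} [Group G] {φ : HH →* G}

/-- `g` conjugates `φ k` to `φ l` -/
def Cj (φ : HH →* G) (g : G) (k l : HH) : Prop := g * φ k * g⁻¹ = φ l

namespace Cj
variable {g h : G} {k l k' l' j : HH}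
theorem mul (a : Cj φ g k l) (b : Cj φ g k' l') : Cj φ g (k * k') (l * l') := by
  unfold Cj at *; rw [map_mul, map_mul, ← a, ← b]; group
theorem inv (a : Cj φ g k l) : Cj φ g k⁻¹ l⁻¹ := by
  unfold Cj at *; rw [map_inv, map_inv, ← a]; group
theorem comp (a : Cj φ g k l) (b : Cj φ h l j) : Cj φ (h * g) k j := by
  unfold Cj at *; rw [← b, ← a]; group
theorem symm (a : Cj φ g k l) : Cj φ g⁻¹ l k := by
  unfold Cj at *; rw [← a]; group
theorem symm' (a : Cj φ g⁻¹ k l) : Cj φ g l k := by simpa using a.symm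
theorem self (c k : HH) : Cj φ (φ c) k (c * k * c⁻¹) := by
  unfold Cj; simp
theorem of (c : HH) (e : c * k = l * c) : Cj φ (φ c) k l := by
  have := self (φ := φ) c k; rwa [e, mul_inv_cancel_right] at this
theorem ofz (c : HH) : Cj φ (φ c) z0 z0 := of c (z0_comm c)
theorem one (g : G) : Cj φ g 1 1 := by simp [Cj]
theorem cast (a : Cj φ g k l) (e : k = k') (e' : l = l') : Cj φ g k' l' := e ▸ e' ▸ a
theorem uniq (hφ : HT φ) (a : Cj φ g k l) (b : Cj φ g k l') : l = l' := hφ.inj (Eq.trans (Eq.symm a) b)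
theorem inj (hφ : HT φ) (a : Cj φ g k l) (b : Cj φ g k' l) : k = k' := a.symm.uniq hφ b.symm
theorem rel (hφ : HT φ) (a : Cj φ g k l) (b : Cj φ g k' l') (e : k = k') : l = l' := (a.cast e rfl).uniq hφ b
theorem eq (a : Cj φ g k l) : g * φ k = φ l * g := by rw [Cj, mul_inv_eq_iff_eq_mul] at a; exact a
theorem of_eq (a : g * φ k = φ l * g) : Cj φ g k l := by rw [Cj, a, mul_inv_cancel_right]
theorem isConj (a : Cj φ g k l) : IsConj (φ k) (φ l) := isConj_iff.2 ⟨g, a⟩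
theorem ne_one (hφ : HT φ) (a : Cj φ g k l) (e : k ≠ 1) : l ≠ 1 := fun e' => e ((a.cast rfl e').inj hφ (one g))
theorem sq_one (hφ : HT φ) (a : Cj φ g k l) (e : k * k = 1) : l * l = 1 := (a.mul a).rel hφ (one g) e
theorem comm (hφ : HT φ) (a : Cj φ g k l) (b : Cj φ g k' l') (e : k * k' = k' * k) : l * l' = l' * l := (a.mul b).rel hφ (b.mul a) e
theorem pw : ∀ {L L' : List HH}, List.Forall₂ (Cj φ g) L L' → ∀ n, Cj φ g (pw L n) (pw L' n)
  | _, _, .nil, _ => one g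
  | _, _, .cons a b, n => by
    rw [Held.pw, Held.pw]; cases Nat.beq (Nat.land n (nat_lit 1)) (nat_lit 1)
    exacts [pw b _, a.mul (pw b _)]
end Cj

theorem map_sq {k : HH} (h : k * k = 1) : φ k * φ k = 1 := by rw [← map_mul, h, map_one]

theorem HT.mem (hφ : HT φ) {g : G} (h : g * φ z0 = φ z0 * g) : ∃ k, φ k = g := by
  have : g ∈ φ.range := by rw [hφ.cent, mem_centralizer_singleton_iff]; exact h
  exact this
theorem HT.mem' (hφ : HT φ) {g : G} (h : Cj φ g z0 z0) : ∃ k, φ k = g := hφ.mem h.eq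

/-- an element commuting with a preimage of `z` is carried into `H` -/
theorem HT.ex (hφ : HT φ) {g : G} {t k : HH} (h : Cj φ g t z0) (e : k * t = t * k) : ∃ l, Cj φ g k l := by
  obtain ⟨l, hl⟩ := hφ.mem (g := g * φ k * g⁻¹) (by
    rw [← h]; simp only [mul_assoc, inv_mul_cancel_left]; rw [← mul_assoc (φ k), ← map_mul, e, map_mul, mul_assoc])
  exact ⟨l, hl.symm⟩
theorem HT.of_cj (hφ : HT φ) {c k l : HH} (h : Cj φ (φ c) k l) : c * k = l * c :=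
  hφ.inj (by rw [map_mul, map_mul]; exact h.eq)
theorem HT.tau (hφ : HT φ) : HT (φ.comp τ) := by
  have e : τ z0 = z0 := by decide +kernel
  refine ⟨hφ.inj.comp (Function.LeftInverse.injective τ_τ), ?_⟩
  rw [MonoidHom.comp_apply, e, ← hφ.cent, MonoidHom.range_comp, MonoidHom.range_eq_top.2 (Function.RightInverse.surjective τ_τ), ← MonoidHom.range_eq_map]
theorem HT.oz (hφ : HT φ) {k : HH} (h : k * k = 1) (h1 : k ≠ 1) : orderOf (φ k) = 2 :=
  orderOf_eq_prime (by rw [sq, map_sq h]) fun e => h1 (hφ.inj (e.trans φ.map_one.symm))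

/-- `φ k` is conjugate to `z` -/
def Z (φ : HH →* G) (k : HH) : Prop := ∃ g, Cj φ g k z0
theorem Z.of {g : G} {k l : HH} (h : Z φ l) (a : Cj φ g k l) : Z φ k := let ⟨_, b⟩ := h; ⟨_, a.comp b⟩
theorem Z.to {g : G} {k l : HH} (h : Z φ k) (a : Cj φ g k l) : Z φ l := h.of a.symm
theorem Z.z : Z φ z0 := ⟨_, .ofz 1⟩
theorem Z_iff {k : HH} : Z φ k ↔ IsConj (φ z0) (φ k) := isConj_iff.symm.trans isConj_comm
theorem cls {k : HH} (h : cl k < 9) : Cj φ (φ (wt k)) (rep (cl k)) k := .of _ ((inv_cls k).2 h)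
theorem cls' {k : HH} (j : ℕ) (h : cl k = j) (hj : j < 9) : Cj φ (φ (wt k)) (rep j) k := h ▸ cls (h ▸ hj)
theorem Z.sq (hφ : HT φ) {k : HH} (h : Z φ k) : k * k = 1 ∧ k ≠ 1 :=
  let ⟨_, a⟩ := h; ⟨a.symm.sq_one hφ (by decide +kernel), a.symm.ne_one hφ (by decide +kernel)⟩

theorem HT.fix8 (hφ : HT φ) {g : G} {l : HH} (h : Cj φ g a8 l) : Cj φ g z0 z0 := by
  have h4 := ((h.mul h).mul (h.mul h)).cast (k' := z0) (by decide +kernel) rfl
  rcases pow4 l with e | e | e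
  · exact absurd e (h4.ne_one hφ (by decide +kernel))
  · exact h4.cast rfl e
  · exact absurd (h4.sq_one hφ (by decide +kernel)) e

theorem HT.not_t (hφ : HT φ) : ¬ Z φ t0 := fun ⟨g, h⟩ => by
  obtain ⟨l, hl⟩ := hφ.ex (k := a8) h (by decide +kernel)
  exact absurd (h.inj hφ (hφ.fix8 hl)) (by decide +kernel)

theorem HT.back (hφ : HT φ) {k : HH} (h : Z φ k) (hk : k ≠ z0) : ∃ g, ∃ j < 9, 2 ≤ j ∧ Cj φ g k z0 ∧ Cj φ g z0 (rep j) := by
  obtain ⟨g, h⟩ := h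
  obtain ⟨l, hl⟩ := hφ.ex (k := z0) h (z0_comm k).symm
  have h1 := (inv_cls l).1 (hl.sq_one hφ (by decide +kernel))
  have h2 := hl.comp (cls h1).symm
  have h3 := h.comp (Cj.ofz (wt l)).symm
  refine ⟨_, _, h1, ?_, h3, h2⟩
  by_contra hc
  have : cl l = 0 ∨ cl l = 1 := by omega
  rcases this with e | e <;> rw [e] at h2
  exacts [h2.ne_one hφ (by decide +kernel) rfl, hk (h3.inj hφ h2)]

theorem HT.not_j2 (hφ : HT φ) : ¬ Z φ j2 := fun h => by
  obtain ⟨g, j, h1, h2, h3, h4⟩ := hφ.back h (by decide +kernel)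
  obtain ⟨w, -, e1, e2⟩ := sqz j h1 h2
  obtain ⟨l, hl⟩ := hφ.ex h4.symm e1
  exact sq_j2 l ((hl.mul hl).rel hφ h3.symm e2)

/-- `u` normalises `φ S` -/
def Nm (φ : HH →* G) (S : Subgroup HH) (u : G) : Prop := (∀ k ∈ S, ∃ l ∈ S, Cj φ u k l) ∧ ∀ l ∈ S, ∃ k ∈ S, Cj φ u k l
theorem Nm.of {S : Subgroup HH} {u : G} (h : u ∈ normalizer (S.map φ : Set G)) : Nm φ S u :=
  ⟨fun k hk => let ⟨l, hl, e⟩ := conj_mem_of_mem_normalizer h (mem_map_of_mem φ hk); ⟨l, hl, e.symm⟩,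
    fun k hk => let ⟨l, hl, e⟩ := conj_mem_of_mem_normalizer (inv_mem h) (mem_map_of_mem φ hk); ⟨l, hl, Cj.symm' e.symm⟩⟩
theorem Nm.mul {S : Subgroup HH} {u v : G} (a : Nm φ S u) (b : Nm φ S v) : Nm φ S (u * v) :=
  ⟨fun k hk => let ⟨l, hl, e⟩ := b.1 k hk; let ⟨j, hj, e'⟩ := a.1 l hl; ⟨j, hj, e.comp e'⟩,
    fun k hk => let ⟨l, hl, e⟩ := a.2 k hk; let ⟨j, hj, e'⟩ := b.2 l hl; ⟨j, hj, e'.comp e⟩⟩
theorem Nm.map {S U : Subgroup HH} {c : HH} (hc : c ∈ U) (h : ∀ c ∈ U, ∀ k ∈ S, c * k * c⁻¹ ∈ S) : Nm φ S (φ c) :=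
  ⟨fun k hk => ⟨_, h c hc k hk, .self c k⟩, fun k hk => ⟨_, h _ (inv_mem hc) k hk, .of c (by group)⟩⟩
theorem Nm.self {S : Subgroup HH} {c : HH} (hc : c ∈ S) : Nm φ S (φ c) :=
  .map hc fun _ hc _ hk => mul_mem (mul_mem hc hk) (inv_mem hc)

theorem pg_of_le {S : Subgroup HH} (h : ∀ k ∈ S, k ∈ TT) : IsPGroup 2 (S.map φ) :=
  IsPGroup.map (fun k => ⟨3, Subtype.ext (Eq.trans (by simp [pow_succ, mul_assoc]) (exp_T k.1 (h _ k.2)))⟩) φ

variable [Finite G]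

theorem syl_of {S : Subgroup HH} {Y : Subgroup G} (h2 : ∀ k ∈ S, k ∈ TT) (hY : S.map φ ≤ Y)
    (hN : ∀ u ∈ Y, Nm φ S u → ∃ k ∈ S, φ k = u) : SylowIn 2 (S.map φ) Y := by
  have : Fact (Nat.Prime 2) := ⟨Nat.prime_two⟩
  refine sylowIn_of_maximal hY (pg_of_le h2) fun P hP h1 h3 => ?_
  by_contra hc
  obtain ⟨u, hu, hu'⟩ := SetLike.exists_of_lt (lt_inf_normalizer hP (lt_of_le_not_ge h1 hc))
  exact hu' (hN u (h3 hu.1) (.of hu.2))

theorem HT.sylT (hφ : HT φ) : SylowIn 2 (TT.map φ) ⊤ := syl_of (fun _ h => h) le_top fun u _ h => by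
  obtain ⟨l, -, hl⟩ := h.1 a8 (by decide +kernel)
  obtain ⟨k, rfl⟩ := hφ.mem' (hφ.fix8 hl)
  obtain ⟨l1, h1, e1⟩ := h.1 b0 (by decide +kernel)
  obtain ⟨l2, h2, e2⟩ := h.1 c0 (by decide +kernel)
  exact ⟨k, norm_T k (e1.uniq hφ (.self k _) ▸ h1) (e2.uniq hφ (.self k _) ▸ h2), rfl⟩

theorem HT.sylT3 (hφ : HT φ) : SylowIn 2 ((cc t0).map φ) (centralizer {φ t0}) :=
  syl_of T3_le (by rintro _ ⟨k, hk, rfl⟩; exact mem_centralizer_singleton_iff.2 (Cj.of k hk).eq) fun u hu h => by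
    obtain ⟨l, -, hl⟩ := h.1 a8 (by decide +kernel)
    obtain ⟨k, rfl⟩ := hφ.mem' (hφ.fix8 hl)
    exact ⟨k, hφ.of_cj (.of_eq (mem_centralizer_singleton_iff.1 hu)), rfl⟩

theorem HT.inv_into (hφ : HT φ) {M : Subgroup G} (hM : φ.range ≤ M) {t : G} (ht : t ∈ M) (h2 : t * t = 1) :
    ∃ g ∈ M, ∃ j < 9, g * t * g⁻¹ = φ (rep j) := by
  have : Fact (Nat.Prime 2) := ⟨Nat.prime_two⟩
  obtain ⟨g, hg, h⟩ := (hφ.sylT.mono ((map_le_range _ _).trans hM) le_top).exists_cj_le (Q := zpowers t) (fun x => ⟨1, by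
    obtain ⟨_, n, rfl⟩ := x
    exact Subtype.ext (by change (t ^ n) ^ 2 ^ 1 = 1; rw [pow_one, ← zpow_natCast, ← zpow_mul, mul_comm, zpow_mul]; simp [sq, h2])⟩)
    (zpowers_le.2 ht)
  obtain ⟨k, -, hk⟩ := cj_le_iff.1 h t (mem_zpowers t)
  have hk2 := (inv_cls k).1 (hφ.inj (by rw [map_mul, hk, conj_mul, h2]; simp))
  refine ⟨(φ (wt k))⁻¹ * g, mul_mem (inv_mem (hM ⟨_, rfl⟩)) hg, _, hk2, ?_⟩
  rw [← (cls hk2).symm, hk]; group

/-- an element normalising `T1` and interchanging `z` and `h z` -/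
theorem HT.swap (hφ : HT φ) (hz : Z φ h0) : ∃ u, Nm φ T1 u ∧ Cj φ u h0 h0 ∧ Cj φ u z0 (h0 * z0) := by
  have : Fact (Nat.Prime 2) := ⟨Nat.prime_two⟩
  by_contra! hc
  obtain ⟨g, hg⟩ := hz
  have h1 : SylowIn 2 (T1.map φ) (centralizer {φ h0}) := syl_of (by decide +kernel)
    (by rintro _ ⟨k, hk, rfl⟩; exact mem_centralizer_singleton_iff.2 (Cj.of k ((mem_C1 k).1 ((mem_T1 k).1 hk).2)).eq) fun u hu h => by
      have hu : Cj φ u h0 h0 := .of_eq (mem_centralizer_singleton_iff.1 hu)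
      obtain ⟨l, hl, e⟩ := h.1 z0 (by decide +kernel)
      have key : ∀ x ∈ T1, l * x = x * l := fun x hx => let ⟨k, _, e'⟩ := h.2 x hx; e.comm hφ e' (z0_comm k).symm
      have := cen_T1 l hl (key _ (by decide +kernel)) (key _ (by decide +kernel)) (key _ (by decide +kernel)) (key _ (by decide +kernel))
      simp only [List.mem_cons, List.not_mem_nil, or_false] at this
      rcases this with rfl | rfl | rfl | rfl
      · exact absurd rfl (e.ne_one hφ (by decide +kernel))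
      · obtain ⟨k, rfl⟩ := hφ.mem' e
        obtain ⟨l1, h1, e1⟩ := h.1 b0 (by decide +kernel)
        exact ⟨k, norm_T1 k ((mem_C1 k).2 (hφ.of_cj hu)) (e1.uniq hφ (.self k _) ▸ h1), rfl⟩
      · exact absurd (e.inj hφ hu) (by decide +kernel)
      · exact absurd e (hc u h hu)
  have h2 : SylowIn 2 (cj g⁻¹ (TT.map φ)) (centralizer {φ h0}) := (cj_top g⁻¹ ▸ hφ.sylT.cj g⁻¹).mono (cj_le_iff.2 (by
    rintro _ ⟨k, -, rfl⟩
    rw [mem_centralizer_singleton_iff, ← hg.symm, conj_mul, conj_mul, ← map_mul, z0_comm, map_mul])) le_top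
  have h3 : T1.map φ < TT.map φ := lt_of_le_not_ge (map_mono (show ∀ k ∈ T1, k ∈ TT by decide +kernel)) fun h => by
    obtain ⟨k, hk, e⟩ := h (mem_map_of_mem φ (show d0 ∈ TT by decide +kernel))
    rw [hφ.inj e] at hk
    exact absurd hk (show d0 ∉ T1 by decide +kernel)
  exact (card_lt_of_lt h3).ne (by rw [h1.card_eq h2, card_cj])

end Cfsg.Lib.Held
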