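import Cfsg.Agent.Lib.Held.H0

/-! # Groups whose involution centraliser is `HH`, the centraliser of a transvection of `SL₅(2)` -/

set_option autoImplicit false

namespace Cfsg.Lib.Held

/-- `φ` identifies `HH` with the centraliser of `z = φ z0`. -/
structure HT {G : Type*} [Group G] (φ : HH →* G) : Prop where
  inj : Function.Injective φ
  cent : φ.range = Subgroup.centralizer {φ z0}

end Cfsg.Lib.Held
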