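import Cfsg.Agent.Lib.Held.Defs
import Cfsg.Agent.Lib.Linear.SmallIso
import Cfsg.Agent.S2133
import Cfsg.Agent.S2134
import Cfsg.Agent.S0364
import Cfsg.Agent.S0365

/-! # The four groups with involution centraliser `HH` -/

set_option autoImplicit false
set_option maxRecDepth 100000

namespace Cfsg.Lib.Held

open Matrix Subgroup MulAction

theorem center_HH : ∀ k : HH, k * a0 = a0 * k → k * b0 = b0 * k → k * c0 = c0 * k → k * d0 = d0 * k → k = 1 ∨ k = z0 := by
  decide +kernel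

theorem ht_of_equiv {G : Type*} [Group G] {s : SL5} (hs : (s : Matrix (Fin 5) (Fin 5) (ZMod 2)) = transvection 0 1 1) {z : G}
    (hz : orderOf z = 2) (e : centralizer ({z} : Set G) ≃* centralizer ({s} : Set SL5)) : ∃ φ : HH →* G, HT φ ∧ φ z0 = z := by
  let e' : HH ≃* centralizer ({z} : Set G) := ((MonoidHom.ofInjective toS_inj).trans (MulEquiv.subgroupCongr (toS_range hs))).trans e.symm
  let φ := (centralizer ({z} : Set G)).subtype.comp e'.toMonoidHom
  have inj : Function.Injective φ := Subtype.val_injective.comp e'.injective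
  have rg : φ.range = centralizer {z} := by
    rw [MonoidHom.range_comp, MonoidHom.range_eq_top.2 e'.surjective, ← MonoidHom.range_eq_map, range_subtype]
  obtain ⟨k, hk⟩ : z ∈ φ.range := rg ▸ mem_centralizer_singleton_iff.2 rfl
  have hc : ∀ x, k * x = x * k := fun x => inj (by
    rw [map_mul, map_mul, hk]; exact (mem_centralizer_singleton_iff.1 (e' x).2).symm)
  obtain rfl | rfl := center_HH k (hc _) (hc _) (hc _) (hc _)
  · rw [← hk, map_one, orderOf_one] at hz; omega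
  · exact ⟨φ, ⟨inj, hk.symm ▸ rg⟩, hk⟩

theorem ht_He : ∃ φ : HH →* Spor.He, HT φ :=
  let ⟨_, h, ⟨e⟩⟩ := Cfsg.Agent.S2134.result s0 rfl; (ht_of_equiv rfl h e).imp fun _ h => h.1
theorem ht_M24 : ∃ φ : HH →* Cfsg.M24, HT φ :=
  let ⟨_, h, ⟨e⟩⟩ := Cfsg.Agent.S2133.result s0 rfl; (ht_of_equiv rfl h e).imp fun _ h => h.1
theorem simple_He : IsSimpleGroup Spor.He := Cfsg.Lib.Comp.He.main.1
theorem card_He : Nat.card Spor.He = 4030387200 := Cfsg.Lib.Comp.He.main.2
theorem simple_M24 : IsSimpleGroup Cfsg.M24 := Cfsg.Agent.S0365.result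
theorem card_M24 : Nat.card Cfsg.M24 = 244823040 := Cfsg.Agent.S0364.result
theorem simple_SL5 : IsSimpleGroup SL5 := Cfsg.Lib.Linear.sl_isSimpleGroup_of_card_two (by simp) (by simp)
theorem card_SL5 : Nat.card SL5 = 9999360 := by
  have := Cfsg.Lib.Linear.card_SL_fin (F := ZMod 2) 4
  rw [Nat.card_zmod, Fin.prod_univ_five] at this
  exact (one_mul _).symm.trans this
theorem ht_toS : HT toS := ⟨toS_inj, by rw [toS_z]; exact toS_range rfl⟩

/-- The stabiliser `2⁴:SL₄(2)` of a non-zero vector. -/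
abbrev St := stabilizer SL5 (Pi.single 0 1 : Fin 5 → ZMod 2)

theorem toS_mem (x : HH) : toS x ∈ St := by
  obtain ⟨y, A, e⟩ := x.ok.2.2
  change toM x.n *ᵥ _ = _
  rw [e, mulVec_single_one]
  ext i; fin_cases i <;> rfl

/-- The embedding of `HH` in `St`. -/
noncomputable def toSt : HH →* St := toS.codRestrict St toS_mem

theorem ht_toSt : HT toSt := ⟨fun _ _ h => toS_inj (congrArg Subtype.val h), by
  ext g
  simp only [MonoidHom.mem_range, mem_centralizer_singleton_iff, Subtype.ext_iff (p := (· ∈ St))]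
  exact (SetLike.ext_iff.1 ht_toS.cent g.1).trans mem_centralizer_singleton_iff⟩

def sw : Matrix (Fin 5) (Fin 5) (ZMod 2) := !![1, 0, 0, 0, 0; 0, 0, 0, 0, 1; 0, 0, 1, 0, 0; 0, 0, 0, 1, 0; 0, 1, 0, 0, 0]
theorem sw_spec : sw * sw = 1 ∧ sw *ᵥ Pi.single 0 1 = Pi.single 0 1 ∧ sw * toM z0.n = toM h0.n * sw := by decide +kernel
theorem conj_toSt : IsConj (toSt z0) (toSt h0) := isConj_iff.2
  ⟨⟨⟨sw, (by decide : ∀ a : ZMod 2, a * a = 1 → a = 1) _ (by rw [← det_mul, sw_spec.1, det_one])⟩, sw_spec.2.1⟩,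
    mul_inv_eq_iff_eq_mul.2 (Subtype.ext (Subtype.ext sw_spec.2.2))⟩

theorem conj_toS : IsConj (toS z0) (toS h0) := St.subtype.map_isConj conj_toSt

theorem not_conj_toSt : ¬ IsConj (toSt z0) (toSt i0) := fun h => by
  obtain ⟨⟨g, h1⟩, h2⟩ := isConj_iff.1 h
  replace h2 : g.1 * toM z0.n = toM i0.n * g.1 := congrArg (·.1.1) (mul_inv_eq_iff_eq_mul.1 h2)
  replace h1 : g.1 *ᵥ Pi.single 0 1 = Pi.single 0 1 := h1
  have h3 := congrArg (· *ᵥ Pi.single 1 1) h2
  simp only [← mulVec_mulVec] at h3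
  rw [show toM z0.n *ᵥ Pi.single 1 1 = Pi.single 0 1 + Pi.single 1 1 by decide +kernel, mulVec_add, h1] at h3
  exact (by decide +kernel : ∀ w : Fin 5 → ZMod 2, Pi.single 0 1 + w ≠ toM i0.n *ᵥ w) _ h3

theorem ht_St : ∃ φ : HH →* St, HT φ ∧ IsConj (φ z0) (φ h0) ∧ ¬ IsConj (φ z0) (φ i0) := ⟨toSt, ht_toSt, conj_toSt, not_conj_toSt⟩

theorem orbit_eq {v : Fin 5 → ZMod 2} (hv : v ≠ 0) : orbit SL5 v = {0}ᶜ := by
  have h1 : ∀ (v : Fin 5 → ZMod 2) i, v i = 1 → orbit SL5 v = orbit SL5 (Pi.single i 1 : Fin 5 → ZMod 2) := fun v i h => orbit_eq_iff.2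
    ⟨⟨updateCol 1 i v, by rw [← cramer_apply, cramer_one]; exact h⟩, by
      change updateCol 1 i v *ᵥ _ = _; rw [mulVec_single_one]; ext; simp⟩
  have h2 : ∀ v : Fin 5 → ZMod 2, v ≠ 0 → orbit SL5 v = orbit SL5 (1 : Fin 5 → ZMod 2) := fun v hv => by
    obtain ⟨i, hi⟩ : ∃ i, v i = 1 := by revert v; decide
    rw [h1 v i hi, h1 1 i rfl]
  ext w
  refine ⟨fun ⟨g, hg⟩ h => hv (by simpa using (smul_eq_iff_eq_inv_smul g).1 (hg.trans h)), fun h => orbit_eq_iff.1 ?_⟩
  rw [h2 v hv, h2 w h]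

theorem card_stab {v : Fin 5 → ZMod 2} (hv : v ≠ 0) : Nat.card (stabilizer SL5 v) = 322560 := by
  have := (stabilizer SL5 v).index_mul_card
  rw [index_stabilizer, orbit_eq hv, card_SL5, Set.ncard_compl, Set.ncard_singleton, Nat.card_fun, Nat.card_zmod,
    Nat.card_fin] at this
  omega

theorem card_St : Nat.card St = 322560 := card_stab (by decide)

end Cfsg.Lib.Held
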