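import Cfsg.Agent.Lib.Held.F1

/-! # More brute-force facts on `HH` -/

set_option autoImplicit false
set_option maxRecDepth 100000

namespace Cfsg.Lib.Held

open Subgroup

/-- action of `y` on `R1` -/
def sy (α β k : HH) : HH := pw [c3⁻¹ * α * c3, z0, h0 * z0, β, i0, f0 * i0] (b1 k)
/-- action of `x` on `R1` -/
def ox (k : HH) : HH := τ (om (τ k))
/-- the classes of `z, h, i, f` -/
def zb (k : HH) : Bool := Nat.testBit 46 (cl k)
/-- a subgroup given by a list -/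
def ofL (L : List HH) (h : 1 ∈ L ∧ (∀ a ∈ L, a⁻¹ ∈ L) ∧ ∀ a ∈ L, ∀ b ∈ L, a * b ∈ L) : Subgroup HH where
  carrier := {k | k ∈ L}
  one_mem' := h.1
  mul_mem' := fun ha hb => h.2.2 _ ha _ hb
  inv_mem' := fun ha => h.2.1 _ ha
noncomputable def S4 : Subgroup HH := ofL [mk 17043521, mk 17174593, mk 17567809, mk 17698881, mk 16916545, mk 17178689, mk 17440833, mk 17702977, mk 16920641, mk 17051713, mk 17444929, mk 17576001, mk 17059905, mk 17190977, mk 17584193, mk 17715265, mk 16932929, mk 17195073, mk 17457217, mk 17719361, mk 16937025, mk 17068097, mk 17461313, mk 17592385] (by decide +kernel)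
theorem S4_mem : (∀ k ∈ [c0, d0, g0, n0], k ∈ S4) ∧ z0 ∉ S4 := by
  change (∀ k ∈ [c0, d0, g0, n0], k ∈ [mk 17043521, mk 17174593, mk 17567809, mk 17698881, mk 16916545, mk 17178689, mk 17440833, mk 17702977, mk 16920641, mk 17051713, mk 17444929, mk 17576001, mk 17059905, mk 17190977, mk 17584193, mk 17715265, mk 16932929, mk 17195073, mk 17457217, mk 17719361, mk 16937025, mk 17068097, mk 17461313, mk 17592385]) ∧ z0 ∉ [mk 17043521, mk 17174593, mk 17567809, mk 17698881, mk 16916545, mk 17178689, mk 17440833, mk 17702977, mk 16920641, mk 17051713, mk 17444929, mk 17576001, mk 17059905, mk 17190977, mk 17584193, mk 17715265, mk 16932929, mk 17195073, mk 17457217, mk 17719361, mk 16937025, mk 17068097, mk 17461313, mk 17592385]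
  decide +kernel

theorem nR1 : ∀ k ∈ R1, n0 * k * n0 ∈ R1 ∧ τ k ∈ R2 ∧ cl k < 8 ∧ k ∈ TT ∧ ∀ r ∈ [e0, h0, z0, b0, f0, i0], r ∈ cc k := by decide +kernel
theorem nR2 : ∀ k ∈ R2, τ k ∈ R1 ∧ om k ∈ R2 := by decide +kernel
theorem mix : ∀ k : HH, k * i0 ≠ mk 17044053 * k := by decide +kernel
theorem fixR : ∀ k ∈ R1, (n0 * sy a0 b0 k * n0 = k → a0 * k = k * a0 → k = 1 ∨ k = e0) ∧
    (n0 * sy aS bS k * n0 = k → k ∈ [1, b0 * z0, b0 * e0 * i0, e0 * i0 * z0]) ∧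
    (k ∈ R2 → ox (a0 * k * a0) = k → om (d0 * k * d0) = k → k = 1 ∨ k = f0) ∧
    (k * e0 ∈ R2 → ∀ p ∈ [(a0, b0), (aS, bS)], g0 * (sy p.1 p.2 (ox k) * e0) * g0 * (sy p.1 p.2 (ox k) * e0) ∈ [i0, i0 * z0]) := by
  decide +kernel
theorem T_e : ∀ k ∈ TT, k * e0 * k⁻¹ ∈ R1 ∧ k * e0 * k⁻¹ * e0 ∈ R2 := by decide +kernel
theorem lift_T : ∀ k ∈ TT, k * t0 = t0 * k → (k * k = 1 ∨ k * k = t0) → k = 1 ∨ k = t0 ∨ zb k = true ∨ zb (k * t0) = true ∨
    ∃ c ∈ [mk 17043521, mk 17051841, mk 17576003, mk 17060037, mk 17592515, mk 17068101, mk 17568327, mk 17584839], c * t0 = t0 * c ∧ ∃ u ∈ [v0, u1, u2, j3, w2, τ j3, τ w2], c * k = u * c ∨ c * (k * t0) = u * c := by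
  decide +kernel
theorem lift_A : ∀ k ∈ TT, k * t0 = t0 * k → ∀ u ∈ [v0, u1, u2], k * u = u * k → k * k ∈ [1, t0, u, u * t0] →
    k ∈ [1, t0, u, u * t0] ∨ ∃ a ∈ [1, t0, u, u * t0], zb (k * a) = true := by decide +kernel
theorem lift_B : ∀ k ∈ TT, k * t0 = t0 * k → (∀ u ∈ [u1, u2], k * u = u * k → k * k = z0 ∨ cl (k * k) = 0 ∨ cl (k * k) = 4) ∧
    (∀ u ∈ [j3, w2], k * u = u * k → k ∈ R1) ∧ (k * v0 = v0 * k ∨ k * v0 = v0 * t0 * k) := by
  decide +kernel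
def prof (S : List HH) (k l : HH) : Prop := (∀ s ∈ S, zb (l * s) = zb (k * s)) → l = k
instance (S : List HH) (k l : HH) : Decidable (prof S k l) := inferInstanceAs (Decidable (_ → _))
theorem prof_R : ∀ l ∈ R1, prof [1, t0, t0 * j3] (f0 * i0) l ∧ prof [1, f0 * i0, j3, t0 * (f0 * i0)] f0 l ∧
    prof [1, f0, f0 * i0 * f0, j3 * f0] z0 l ∧ prof [1, t0, t0 * w2] i0 l ∧ prof [1, i0, w2, t0 * i0] z0 l := by
  decide +kernel
theorem V1_cl : ∀ k : HH, (k ∈ V1 ↔ cl k ≤ 2) ∧ (k ∈ V1 → k ∈ TT ∧ pw [a0, e0, h0, z0] (sh k.n 1 15) = k) := by decide +kernel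
theorem V2_i : ∀ k : HH, pat (nat_lit 0x1f7bdef) (k * i0 * k⁻¹) = true := by decide +kernel
theorem V2_f : ∀ v : HH, pat (nat_lit 0x1f7bdef) v = true → v * f0 * (v * f0) = i0 ∨
    (v * f0 * (v * f0) = 1 ∧ (a0 * (v * f0)) ^ 4 = 1 ∧ a0 * (v * f0) ≠ v * f0 * a0) := by decide +kernel

end Cfsg.Lib.Held
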