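import Cfsg.Agent.Lib.Held.A1
import Cfsg.Agent.Lib.Held.Abs
import Cfsg.Agent.Lib.Core.Basic

/-! # Held type: generation when `z` is fused to both `h` and `i` -/

set_option autoImplicit false
set_option maxRecDepth 100000

namespace Cfsg.Lib.Held

open Subgroup Cfsg.Lib.Transfer

variable {G : Type*} [Group G] {φ : HH →* G} {M : Subgroup G}

def Gy (φ : HH →* G) (M : Subgroup G) : Prop := ∃ y ∈ M, ∃ α β, Y0 φ y α β ∧ Ty α β
structure Gn (φ : HH →* G) (M : Subgroup G) : Prop where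
  ht : HT φ
  le : φ.range ≤ M
  gy : Gy φ M
  gx : Gy (φ.comp τ) M

theorem Gn.tau (h : Gn φ M) : Gn (φ.comp τ) M := ⟨h.ht.tau, range_tau (φ := φ) ▸ h.le, h.gx, by rw [tau_tau]; exact h.gy⟩
theorem Gy.f3 (h : Gy φ M) (hM : φ.range ≤ M) : Fu φ M h0 z0 ∧ Fu φ M f0 i0 ∧ Fu φ M j2 t0 ∧ (Fu φ M j3 z0 ∨ Fu φ M j3 t0) := by
  obtain ⟨y, hy, α, β, h, ht⟩ := h
  refine ⟨(h.fu hM hy).1, (h.fu hM hy).2.1, (h.fu hM hy).2.2, ?_⟩
  rcases ht with ⟨rfl, -⟩ | ⟨rfl, -⟩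
  exacts [.inr (h.fuL hM hy), .inl (h.fuS hM hy)]
theorem Gn.zf (h : Gn φ M) {k : HH} (hk : zb k = true) : Fu φ M k z0 := by
  obtain ⟨a, b, -⟩ := h.gy.f3 h.le
  have c : Fu φ M i0 z0 := (h.tau.gy.f3 h.tau.le).1.tau (by decide +kernel)
  have : ∀ j, Nat.testBit 46 j = true → j = 1 ∨ j = 2 ∨ j = 3 ∨ j = 5 := fun j hj => by
    have := Nat.ge_two_pow_of_testBit hj
    have : j < 6 := by_contra fun hc => by have := Nat.pow_le_pow_right (n := 2) (by norm_num) (not_lt.1 hc); omega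
    interval_cases j <;> simp_all [Nat.testBit]
  rcases this _ hk with e | e | e | e
  exacts [.cls h.le k 1 e (by decide), (Fu.cls h.le k 2 e (by decide)).trans a, (Fu.cls h.le k 3 e (by decide)).trans c,
    (Fu.cls h.le k 5 e (by decide)).trans (b.trans c)]
theorem Gn.fall (h : Gn φ M) {k : HH} (hk : k * k = 1) (h1 : k ≠ 1) : Fu φ M k z0 ∨ Fu φ M k t0 := by
  have h9 := (inv_cls k).1 hk
  have e := Fu.cls h.le k _ rfl h9
  obtain ⟨-, -, a, b⟩ := h.gy.f3 h.le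
  obtain ⟨-, -, -, c⟩ := h.tau.gy.f3 h.tau.le
  generalize cl k = j at *
  interval_cases j
  · obtain ⟨g, -, e⟩ := e; exact absurd rfl (e.ne_one h.ht h1)
  iterate 3 exact .inl (e.trans (h.zf (by decide +kernel)))
  exacts [.inr e, .inl (e.trans (h.zf (by decide +kernel))), .inr (e.trans a), b.imp e.trans e.trans,
    c.imp (fun c => e.trans (c.tau (by decide +kernel))) fun c => e.trans (c.tau (by decide +kernel))]
theorem Gn.zM (h : Gn φ M) {k : HH} (hk : Z φ k) : Fu φ M k z0 :=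
  (h.fall (hk.sq h.ht).1 (hk.sq h.ht).2).resolve_right fun e => h.ht.not_t (e.symm.zz hk)

theorem mem_zp {t x : G} (h : t * t = 1) (hx : x ∈ zpowers t) : x = 1 ∨ x = t := by
  obtain ⟨n, rfl⟩ := hx
  rcases Int.even_or_odd' n with ⟨m, rfl | rfl⟩
  · left; simp [zpow_mul, zpow_ofNat, sq, h]
  · right; simp [zpow_add, zpow_mul, zpow_ofNat, sq, h]
theorem HT.zp (hφ : HT φ) {k : HH} : φ k ∈ zpowers (φ t0) ↔ k = 1 ∨ k = t0 :=
  ⟨fun h => (mem_zp (map_sq (by decide +kernel)) h).imp (fun e => hφ.inj (e.trans φ.map_one.symm)) fun e => hφ.inj e,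
    by rintro (rfl | rfl); exacts [φ.map_one ▸ one_mem _, mem_zpowers _]⟩

/-- the centraliser of `t` and `k` lies in `M` -/
def Cn (φ : HH →* G) (M : Subgroup G) (k : HH) : Prop := ∀ w, Cj φ w t0 t0 → Cj φ w k k → w ∈ M
theorem Cn.mul {k : HH} (h : Cn φ M (k * t0)) : Cn φ M k := fun w a b => h w a (b.mul a)
theorem Fu.cent {g w : G} {k l : HH} (a : Cj φ g k l) (b : Cj φ w k k) : Cj φ (g * w * g⁻¹) l l := by
  simpa only [mul_assoc] using (a.symm.comp b).comp a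
theorem mem_of_cj {g w : G} (hg : g ∈ M) (h : g * w * g⁻¹ ∈ M) : w ∈ M := by
  simpa [mul_assoc] using mul_mem (mul_mem (inv_mem hg) h) hg
theorem Cn.conj (hM : φ.range ≤ M) {k u c : HH} (h : Cn φ M u) (e : c * t0 = t0 * c) (e' : c * k = u * c) : Cn φ M k := fun w a b =>
  mem_of_cj (hM ⟨c, rfl⟩) (h _ (Fu.cent (.of c e) a) (Fu.cent (.of c e') b))
theorem Gn.cz (h : Gn φ M) {k : HH} (hk : Z φ k) {w : G} (b : Cj φ w k k) : w ∈ M :=
  let ⟨_, hg, e⟩ := h.zM hk; mem_of_cj hg (h.le (h.ht.mem' (Fu.cent e b)))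

theorem cen_AA {u : HH} (hA) (hu : u * t0 = t0 * u) {w : G} :
    w ∈ centralizer ((ofL [1, t0, u, u * t0] hA).map φ : Set G) ↔ Cj φ w t0 t0 ∧ Cj φ w u u :=
  ⟨fun h => ⟨.of_eq (h _ (mem_map_of_mem φ (by simp [ofL, ← SetLike.mem_coe]))).symm,
    .of_eq (h _ (mem_map_of_mem φ (by simp [ofL, ← SetLike.mem_coe]))).symm⟩, fun ⟨a, b⟩ => by
      rintro _ ⟨k, hk, rfl⟩
      simp only [ofL, ← SetLike.mem_coe, coe_set_mk, Submonoid.coe_set_mk, Subsemigroup.coe_set_mk, Set.mem_ofPred_eq, List.mem_cons,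
        List.not_mem_nil, or_false] at hk
      rcases hk with rfl | rfl | rfl | rfl
      exacts [(Cj.one w).eq.symm, a.eq.symm, b.eq.symm, (b.mul a).eq.symm]⟩

theorem norm_v : ∀ k ∈ TT, k * t0 = t0 * k → ∀ a ∈ [1, t0, v0, v0 * t0], k * a * k⁻¹ ∈ [1, t0, v0, v0 * t0] := by decide +kernel

variable [Finite G]

theorem Gn.h2 (h : Gn φ M) (g : G) (hg : g * φ z0 * g⁻¹ ∈ M) : g ∈ M := by
  obtain ⟨m, hm, j, -, e⟩ := h.ht.inv_into h.le hg (by rw [conj_mul, map_sq (by decide +kernel)]; simp)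
  have e : Cj φ (m * g) z0 (rep j) := by rw [Cj, ← e]; group
  obtain ⟨m', hm', e'⟩ := h.zM (Z.z.to e)
  exact (mul_mem_cancel_left hm).1 ((mul_mem_cancel_left hm').1 (h.le (h.ht.mem' (e.comp e'))))

theorem Gn.cnA (h : Gn φ M) {u p q : HH} (hA) (hu : u ∈ [v0, u1, u2])
    (hS : SylowIn 2 ((cc t0 ⊓ cc u).map φ) (centralizer ((ofL [1, t0, u, u * t0] hA).map φ : Set G)))
    (hp : (∀ a ∈ [1, t0, u, u * t0, p, q], a ∈ cc t0 ∧ a ∈ cc u) ∧ p * p = 1 ∧ q * q = 1 ∧ (p * q) ^ 4 = 1 ∧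
      p * q * p⁻¹ * q⁻¹ ∉ [1, t0, u, u * t0]) : Cn φ M u := fun w a b => by
  obtain ⟨h1, h2, h3, h4, h5⟩ := hp
  refine cent_le_of_lifts (Z := {x | IsConj (φ z0) x}) (fun x hx g => hx.trans (isConj_iff.2 ⟨g, rfl⟩)) (fun x hx hM g hg => ?_) hS
    (map_mono fun a ha => h1 a (List.mem_append_left [p, q] ha)) ((map_le_range _ _).trans h.le) ?_
    (mem_map_of_mem φ (h1 p (by simp))) (mem_map_of_mem φ (h1 q (by simp))) (by rw [map_sq h2]; exact one_mem _)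
    (by rw [map_sq h3]; exact one_mem _) (by rw [← map_mul, ← map_pow, h4, map_one]; exact one_mem _) (fun ⟨k, hk, e⟩ => h5 ?_)
    ((cen_AA hA (h1 u (by simp)).1).2 ⟨a, b⟩)
  · obtain ⟨c, rfl⟩ := isConj_iff.1 hx
    simpa using mul_mem (h.h2 (g * c) (by simpa [mul_assoc] using hg)) (inv_mem (h.h2 c hM))
  · rintro _ ⟨k, hk, rfl⟩ ⟨l, hl, e⟩
    rw [← map_mul] at e
    exact (lift_A k (T3_le k hk.1) hk.1 u hu hk.2 (h.ht.inj e ▸ hl)).imp (mem_map_of_mem φ) fun ⟨a, ha, e⟩ =>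
      ⟨_, mem_map_of_mem φ ha, φ.map_mul k a ▸ Z_iff.1 (h.zf e).z⟩
  · rwa [h.ht.inj (a₁ := k) (a₂ := p * q * p⁻¹ * q⁻¹) (by simpa using e)] at hk

theorem Gn.cn_v (h : Gn φ M) : Cn φ M v0 := by
  have : Fact (Nat.Prime 2) := ⟨Nat.prime_two⟩
  have hA : 1 ∈ [1, t0, v0, v0 * t0] ∧ (∀ a ∈ [1, t0, v0, v0 * t0], a⁻¹ ∈ [1, t0, v0, v0 * t0]) ∧
    ∀ a ∈ [1, t0, v0, v0 * t0], ∀ b ∈ [1, t0, v0, v0 * t0], a * b ∈ [1, t0, v0, v0 * t0] := by decide +kernel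
  have hc := fun w => cen_AA (φ := φ) hA (by decide +kernel) (w := w)
  refine h.cnA (p := e0) (q := c0) hA (by simp) ?_ (by decide +kernel)
  have h1 := (h.ht.sylT3.mono (K := centralizer {φ t0} ⊓ normalizer ((ofL _ hA).map φ : Set G)) (le_inf h.ht.sylT3.1
    ((map_mono fun k hk => mem_normalizer_fintype (S := (ofL _ hA : Set HH)) (norm_v k (T3_le k hk) hk)).trans (le_normalizer_map φ))) inf_le_left).inf_of_le
    (inf_le_right.trans (Core.normalizer_le_normalizer_centralizer _))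
    (le_inf (fun w hw => mem_centralizer_singleton_iff.2 ((hc w).1 hw).1.eq) (centralizer_le_normalizer _))
  convert h1 using 1
  exact le_antisymm (le_inf (map_mono inf_le_left) (by rintro _ ⟨k, hk, rfl⟩; exact (hc _).2 ⟨.of k hk.1, .of k hk.2⟩))
    (by rintro _ ⟨⟨k, hk, rfl⟩, h2⟩; exact mem_map_of_mem φ ⟨hk, h.ht.of_cj ((hc _).1 h2).2⟩)

theorem Gn.cn_u (h : Gn φ M) {u : HH} (hu : u ∈ [u1, u2]) : Cn φ M u := by
  have hA : ∀ u ∈ [u1, u2], (1 ∈ [1, t0, u, u * t0] ∧ (∀ a ∈ [1, t0, u, u * t0], a⁻¹ ∈ [1, t0, u, u * t0]) ∧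
    ∀ a ∈ [1, t0, u, u * t0], ∀ b ∈ [1, t0, u, u * t0], a * b ∈ [1, t0, u, u * t0]) ∧ (e0 * g0 ∈ cc t0 ∧ e0 * g0 ∈ cc u) ∧
    (∀ a ∈ [1, t0, u, u * t0, e0, g0], a ∈ cc t0 ∧ a ∈ cc u) ∧ e0 * e0 = 1 ∧ g0 * g0 = 1 ∧ (e0 * g0) ^ 4 = 1 ∧
      e0 * g0 * e0⁻¹ * g0⁻¹ ∉ [1, t0, u, u * t0] := by decide +kernel
  obtain ⟨hA, h1, h2⟩ := hA u hu
  have hc := fun w => cen_AA (φ := φ) hA (h2.1 u (by simp)).1 (w := w)
  refine h.cnA hA (List.mem_cons_of_mem _ hu) (syl_of (fun k hk => T3_le k hk.1)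
    (by rintro _ ⟨k, hk, rfl⟩; exact (hc _).2 ⟨.of k hk.1, .of k hk.2⟩) fun w hw hN => ?_) h2
  obtain ⟨l, hl, e⟩ := hN.1 _ h1
  have e := (e.mul e).cast (k' := z0) (by decide +kernel) rfl
  rcases (lift_B l (T3_le l hl.1) hl.1).1 u hu hl.2 with e' | e' | e'
  · obtain ⟨k, rfl⟩ := h.ht.mem' (e.cast rfl e')
    exact ⟨k, ⟨h.ht.of_cj ((hc _).1 hw).1, h.ht.of_cj ((hc _).1 hw).2⟩, rfl⟩
  · exact absurd rfl (((Z.z.to e).of (cls' 0 e' (by decide))).sq h.ht).2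
  · exact (h.ht.not_t ((Z.z.to e).of (cls' 4 e' (by decide)))).elim

theorem R1_comm {k l : HH} (hk : k ∈ R1) (hl : l ∈ R1) : l * k = k * l := by
  have := pw_mem (nR1 k hk).2.2.2.2 (b1 l)
  rwa [R1_eq l hl] at this

theorem Gn.cn_j (h : Gn φ M) {u : HH} (hu : u ∈ [j3, w2]) : Cn φ M u := by
  have h7 : ∀ u ∈ [j3, w2], (cl u = cl j3 ∧ cl j3 < 9) ∧ u ∈ R1 := by decide +kernel
  obtain ⟨-, -, a6, a | a⟩ := h.gy.f3 h.le
  · exact fun w _ => h.cz ((Fu.cl h.le (h7 u hu).1).trans a).z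
  have hz : ∀ k ∈ R1, Z φ k → zb k = true := fun k hk e => by
    have h8 := (nR1 k hk).2.2.1
    have e := (Fu.cls h.le k _ rfl (by omega)).symm.zz e
    rw [zb]
    generalize cl k = j at *
    interval_cases j
    any_goals rfl
    exacts [absurd rfl (e.sq h.ht).2, (h.ht.not_t e).elim, (h.ht.not_j2 e).elim, (h.ht.not_t (a.symm.zz e)).elim]
  intro w w1 w2
  refine le_of_selfnorm (Y := centralizer {φ t0} ⊓ centralizer {φ u}) (R := R1.map φ) ?_ (pg_of_le fun k hk => (nR1 k hk).2.2.2.1) ?_ ?_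
    ((map_le_range _ _).trans h.le) (mem_map_of_mem φ (show z0 ∈ R1 by decide +kernel)) (mem_map_of_mem φ (show h0 ∈ R1 by decide +kernel))
    (h.ht.oz (by decide +kernel) (by decide +kernel)) (h.ht.oz (by decide +kernel) (by decide +kernel))
    (fun e => absurd (h.ht.inj e) (by decide +kernel)) (fun g hg => h.cz .z (.of_eq (mem_centralizer_singleton_iff.1 hg)))
    (fun g hg => h.cz (h.zf (by decide +kernel)).z (.of_eq (mem_centralizer_singleton_iff.1 hg)))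
    (fun g hg => h.cz (k := z0 * h0) (h.zf (by decide +kernel)).z (.of_eq (by rw [map_mul]; exact mem_centralizer_singleton_iff.1 hg)))
    ⟨mem_centralizer_singleton_iff.2 w1.eq, mem_centralizer_singleton_iff.2 w2.eq⟩
  · rintro _ ⟨k, hk, rfl⟩
    exact ⟨mem_centralizer_singleton_iff.2 (Cj.of k (R1_comm (by decide +kernel) hk)).eq,
      mem_centralizer_singleton_iff.2 (Cj.of k (R1_comm (h7 u hu).2 hk)).eq⟩
  · rintro _ ⟨k, hk, rfl⟩ _ ⟨l, hl, rfl⟩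
    exact (Cj.of k (R1_comm hl hk)).eq
  rintro g ⟨⟨g1, g2⟩, g3⟩
  have g1 : Cj φ g t0 t0 := .of_eq (mem_centralizer_singleton_iff.1 g1)
  have g2 : Cj φ g u u := .of_eq (mem_centralizer_singleton_iff.1 g2)
  have key : ∀ S k, (k ∈ R1 ∧ ∀ s ∈ S, s ∈ R1) → (∀ l ∈ R1, prof S k l) → (∀ s ∈ S, Cj φ g s s) → Cj φ g k k := fun S k h1 h2 h3 => by
    obtain ⟨l, hl, e⟩ := (Nm.of g3).1 k h1.1
    refine e.cast rfl (h2 l hl fun s hs => Bool.eq_iff_iff.2 ⟨fun e' => ?_, fun e' => ?_⟩)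
    exacts [hz _ (mul_mem h1.1 (h1.2 s hs)) ((h.zf e').z.of (e.mul (h3 s hs))), hz _ (mul_mem hl (h1.2 s hs)) ((h.zf e').z.to (e.mul (h3 s hs)))]
  have : Cj φ g z0 z0 := by
    simp only [List.mem_cons, List.not_mem_nil, or_false] at hu
    rcases hu with rfl | rfl
    · have a := key _ _ (by decide +kernel) (fun l hl => (prof_R l hl).1) (by simp [Cj.one, g1, g1.mul g2])
      have b := key _ _ (by decide +kernel) (fun l hl => (prof_R l hl).2.1) (by simp [Cj.one, a, g2, g1.mul a])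
      exact key _ _ (by decide +kernel) (fun l hl => (prof_R l hl).2.2.1) (by simp [Cj.one, b, a.mul b, g2.mul b])
    · have a := key _ _ (by decide +kernel) (fun l hl => (prof_R l hl).2.2.2.1) (by simp [Cj.one, g1, g1.mul g2])
      exact key _ _ (by decide +kernel) (fun l hl => (prof_R l hl).2.2.2.2) (by simp [Cj.one, a, g2, g1.mul a])
  obtain ⟨k, rfl⟩ := h.ht.mem' this
  exact mem_map_of_mem φ ((lift_B k (T3_le k (h.ht.of_cj g1)) (h.ht.of_cj g1)).2.1 u hu (h.ht.of_cj g2))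

theorem Gn.cn (h : Gn φ M) {k : HH} (h1 : k * t0 = t0 * k) (h2 : k * k = 1 ∨ k * k = t0) (h3 : ¬ (k = 1 ∨ k = t0)) : Cn φ M k := by
  have key : ∀ u ∈ [v0, u1, u2, j3, w2, τ j3, τ w2], Cn φ M u := by
    have tt : τ t0 = t0 := by decide +kernel
    have : ∀ u ∈ [j3, w2], Cn φ M (τ u) := fun u hu w a b => h.tau.cn_j hu w (by rw [← tt] at a; exact a) b
    simp only [List.forall_mem_cons]
    exact ⟨h.cn_v, h.cn_u (by simp), h.cn_u (by simp), h.cn_j (by simp), h.cn_j (by simp), this _ (by simp), this _ (by simp), by simp⟩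
  rcases lift_T k (T3_le k h1) h1 h2 with e | e | e | e | ⟨c, -, e, u, hu, e' | e'⟩
  exacts [absurd (.inl e) h3, absurd (.inr e) h3, fun _ _ => h.cz (h.zf e).z, .mul fun _ _ => h.cz (h.zf e).z,
    (key u hu).conj h.le e e', .mul ((key u hu).conj h.le e e')]

theorem Gn.ct (h : Gn φ M) : centralizer {φ t0} ≤ M := by
  have hφ := h.ht
  refine (cent_inv_le (z := φ z0) (hφ.oz (by decide +kernel) (by decide +kernel)) (map_sq (by decide +kernel))
    (fun e => absurd (hφ.zp.1 e) (by decide +kernel)) hφ.sylT3 (mem_map_of_mem φ (by decide +kernel))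
    (by rintro _ ⟨k, -, rfl⟩; exact (Cj.ofz k).eq) ((map_le_range _ _).trans h.le) h.h2 ?_).resolve_right ?_
  · intro u u1 u2 u3 u4 g g1 g2
    obtain ⟨k, rfl⟩ := hφ.mem (u4.resolve_right fun e => hφ.not_t ((Z.z.to (.of_eq (g := u) (l := z0 * t0)
      (by rw [e, map_mul, mul_assoc, u1, mul_assoc]))).of (cls' 4 (by decide +kernel) (by decide))))
    rw [← map_mul, hφ.zp] at u2
    have g2 : ∃ l, Cj φ g k l := g2.elim (fun e => ⟨_, e⟩) fun e => ⟨_, e.trans (φ.map_mul _ _).symm⟩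
    obtain ⟨l, g2⟩ := g2
    have key : ∀ {k l}, Cj φ g k l → Cj φ (g⁻¹ * φ z0 * g⁻¹⁻¹) k k := fun {k l} a => Fu.cent a.symm (.of z0 (z0_comm l).symm)
    exact inv_mem_iff.1 (h.h2 _ (h.cn (hφ.of_cj (.of_eq u1)) u2 (mt hφ.zp.2 u3) _ (key (.of_eq g1)) (key g2)))
  rintro ⟨K, k1, k2, k3, k4, k5⟩
  obtain ⟨y, -, α, β, hy, ht⟩ := h.gy
  obtain ⟨x, -, α', β', hx, -⟩ := h.gx
  have a := (hy.act' ht).mul hx.actx
  have hab : (α, β) ∈ [(a0, b0), (aS, bS)] := by simpa [Ty] using ht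
  have fz : ∀ p ∈ [(a0, b0), (aS, bS)], sy p.1 p.2 (ox t0) = t0 ∧ sy p.1 p.2 (ox z0) = j2 * t0 := by decide +kernel
  have dt := (a t0 (by decide +kernel)).2.cast rfl (fz _ hab).1
  have dz := (a z0 (by decide +kernel)).2.cast rfl (fz _ hab).2
  have K' : ∀ {k}, φ k ∈ K → φ k ∈ K ⊓ M := fun hk => ⟨hk, h.le ⟨_, rfl⟩⟩
  have k6 : ∀ {k}, φ k ∈ K → k * k = 1 ∧ ¬ (k = 1 ∨ k = t0) → ∃ g ∈ K, Cj φ g z0 k ∨ Cj φ g z0 (k * t0) := fun hk e =>
    let ⟨g, hg, e⟩ := k5 _ (K' k2) _ (K' hk) (by rw [map_sq (by decide +kernel)]; exact one_mem _)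
      (fun e => absurd (hφ.zp.1 e) (by decide +kernel)) (by rw [map_sq e.1]; exact one_mem _) (mt hφ.zp.1 e.2)
    ⟨g, hg.1, e.imp_right fun e => e.trans (φ.map_mul _ _).symm⟩
  have hj : φ j2 ∈ K := by
    have := mul_mem (dz ▸ k4 _ dt.eq _ k2) k1
    rwa [← map_mul, show j2 * t0 * t0 = j2 by decide +kernel] at this
  obtain ⟨g, hg, e | e⟩ := k6 hj (by decide +kernel)
  · exact hφ.not_j2 (Z.z.to e)
  obtain ⟨k, ek⟩ := hφ.mem' (e.comp dz.symm)
  have gt : Cj φ g t0 t0 := .of_eq (mem_centralizer_singleton_iff.1 (k3 hg))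
  obtain ⟨r1, r2⟩ := T_e k (T3_le k (hφ.of_cj (ek ▸ gt.comp dt.symm)))
  have ge := (Cj.self (φ := φ) k e0).comp (a _ r1).2
  rw [ek, mul_inv_cancel_left] at ge
  beta_reduce at ge
  have hi := (fixR _ r1).2.2.2 r2 _ hab
  generalize sy α β (ox (k * e0 * k⁻¹)) = l at ge hi
  have hl : φ (l * e0) ∈ K := by
    have := mul_mem hg (k4 _ (Cj.of e0 (by decide +kernel)).eq _ (inv_mem hg))
    rwa [← mul_assoc, ← mul_assoc, ge, inv_eq_of_mul_eq_one_left (map_sq (φ := φ) (k := e0) (by decide +kernel)), ← map_mul] at this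
  have hl2 : φ (g0 * (l * e0) * g0 * (l * e0)) ∈ K := by
    have := mul_mem (k4 _ (Cj.of g0 (by decide +kernel)).eq _ hl) hl
    rwa [inv_eq_of_mul_eq_one_left (map_sq (φ := φ) (k := g0) (by decide +kernel)), ← map_mul, ← map_mul, ← map_mul] at this
  have hv : φ v0 ∈ K := by
    simp only [List.mem_cons, List.not_mem_nil, or_false] at hi
    rcases hi with e | e <;> rw [e] at hl2
    · have := mul_mem hj hl2
      rwa [← map_mul, show j2 * i0 = v0 by decide +kernel] at this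
    · have := mul_mem (mul_mem hj hl2) k2
      rwa [← map_mul, ← map_mul, show j2 * (i0 * z0) * z0 = v0 by decide +kernel] at this
  obtain ⟨g, -, e | e⟩ := k6 hv (by decide +kernel) <;> exact hφ.not_j2 ((Z.z.to e).of (cls' 6 (by decide +kernel) (by decide)))

theorem Gn.top (h : Gn φ M) : M = ⊤ := by
  have hφ := h.ht
  refine (top_or_conj (z := φ z0) (hφ.oz (by decide +kernel) (by decide +kernel)) hφ.sylT (mem_map_of_mem φ (by decide +kernel))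
    (by rintro _ ⟨k, -, rfl⟩; exact (Cj.ofz k).eq) (h.le ⟨_, rfl⟩) h.h2 fun u u2 u1 w hw => ?_).resolve_right fun hc => ?_
  · obtain ⟨k, rfl⟩ := hφ.mem u1
    have hw : Cj φ w k k := .of_eq (mem_centralizer_singleton_iff.1 hw)
    rcases h.fall (k := k) (hφ.inj (by rw [map_mul, ← sq, ← u2, pow_orderOf_eq_one, map_one])) (by rintro rfl; simp at u2) with e | ⟨g, hg, e⟩
    exacts [h.cz e.z hw, mem_of_cj hg (h.ct (mem_centralizer_singleton_iff.2 (Fu.cent e hw).eq))]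
  have key : ∀ {k}, zb k = true → φ k ∈ normalClosure {φ z0} := fun hk =>
    conjugatesOfSet_subset_normalClosure (Group.mem_conjugatesOfSet_iff.2 ⟨_, rfl, Z_iff.1 (h.zf hk).z⟩)
  refine hφ.not_t (Z_iff.2 (hc _ ?_ (hφ.oz (by decide +kernel) (by decide +kernel))))
  rw [show t0 = h0 * i0 by decide +kernel, map_mul]
  exact mul_mem (key (by decide +kernel)) (key (by decide +kernel))

end Cfsg.Lib.Held
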