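import Cfsg.Agent.Lib.Fis.Tv5
import Cfsg.Agent.Lib.Golay.Kern
import Mathlib.Algebra.Group.MinimalAxioms

/-!
# The centraliser `HH = 2^{1+6}_+:L₃(2)` of a transvection of `SL₅(2)` as a group of packed bit matrices
Bit `5 i + j` of the code is the entry `(i, j)`; the transvection is `z = 1 + E₀₄`.
-/

set_option autoImplicit false
set_option maxRecDepth 100000

namespace Cfsg.Lib.Held

open Cfsg.Lib.Golay Cfsg.Lib.Fis Matrix

def tm (a b j k : ℕ) : ℕ :=
  Nat.mul (Nat.land (Nat.shiftRight a j) (nat_lit 0x108421)) (Nat.land (Nat.shiftRight b k) (nat_lit 31))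
/-- product of packed matrices -/
def mm (a b : ℕ) : ℕ := Nat.xor (Nat.xor (Nat.xor (Nat.xor (tm a b (nat_lit 0) (nat_lit 0)) (tm a b (nat_lit 1) (nat_lit 5)))
  (tm a b (nat_lit 2) (nat_lit 10))) (tm a b (nat_lit 3) (nat_lit 15))) (tm a b (nat_lit 4) (nat_lit 20))

def spr (b : Fin 5 → Bool) : ℕ :=
  (b 0).toNat + 32 * (b 1).toNat + 1024 * (b 2).toNat + 32768 * (b 3).toNat + 1048576 * (b 4).toNat

theorem spr_bit : ∀ b : Fin 5 → Bool, spr b < 2 ^ 25 ∧ ∀ m < 25, (spr b).testBit m =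
    (decide (m = 0) && b 0 || decide (m = 5) && b 1 || decide (m = 10) && b 2 || decide (m = 15) && b 3 || decide (m = 20) && b 4) := by
  decide +kernel

theorem land_spr (x : ℕ) : Nat.land x 0x108421 = spr fun i => x.testBit (5 * i) := by
  refine Nat.eq_of_testBit_eq fun m => ?_
  change (x &&& 0x108421).testBit m = _
  rw [Nat.testBit_and]
  by_cases h : m < 25
  · rw [(spr_bit _).2 m h]; interval_cases m <;> simp +decide [Nat.testBit]
  · rw [Nat.testBit_lt_two_pow ((spr_bit _).1.trans_le (Nat.pow_le_pow_right (by norm_num) (not_lt.1 h))),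
      Nat.testBit_lt_two_pow (x := 0x108421) (lt_of_lt_of_le (by norm_num) (Nat.pow_le_pow_right (by norm_num) (not_lt.1 h))), Bool.and_false]

theorem spr_mul : ∀ b : Fin 5 → Bool, ∀ r < 32, spr b * r < 2 ^ 25 ∧ ∀ i k : Fin 5, (spr b * r).testBit (5 * i + k) = (b i && r.testBit k) := by
  decide +kernel

theorem tm_spec (a b j l : ℕ) : tm a b j l < 2 ^ 25 ∧
    ∀ i k : Fin 5, (tm a b j l).testBit (5 * i + k) = (a.testBit (5 * i + j) && b.testBit (l + k)) := by
  have h : Nat.land (Nat.shiftRight b l) 31 < 32 := Nat.lt_succ_of_le Nat.and_le_right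
  have e : tm a b j l = spr (fun i => (a >>> j).testBit (5 * i)) * Nat.land (Nat.shiftRight b l) 31 := by
    rw [← land_spr]; rfl
  rw [e]
  refine ⟨(spr_mul _ _ h).1, fun i k => ?_⟩
  rw [(spr_mul _ _ h).2]
  change (_ && ((b >>> l) &&& 31).testBit k) = _
  rw [Nat.testBit_and, Nat.testBit_shiftRight, Nat.testBit_shiftRight, add_comm j, show (31 : ℕ).testBit k = true by revert k; decide,
    Bool.and_true]

def pi5 : Fin 5 → Fin 5 := ![0, 4, 1, 2, 3]
def bz (b : Bool) : ZMod 2 := if b then 1 else 0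
theorem bz_xor : ∀ a b, bz (xor a b) = bz a + bz b := by decide
theorem bz_and : ∀ a b, bz (a && b) = bz a * bz b := by decide
theorem bz_inj : ∀ a b, bz a = bz b → a = b := by decide
/-- the matrix with code `n` -/
def toM (n : ℕ) : Matrix (Fin 5) (Fin 5) (ZMod 2) := fun i j => bz (n.testBit (5 * pi5 i + pi5 j))

theorem mm_lt (a b : ℕ) : mm a b < 2 ^ 25 :=
  Nat.xor_lt_two_pow (Nat.xor_lt_two_pow (Nat.xor_lt_two_pow (Nat.xor_lt_two_pow (tm_spec ..).1 (tm_spec ..).1)
    (tm_spec ..).1) (tm_spec ..).1) (tm_spec ..).1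

theorem toM_mm (a b : ℕ) : toM (mm a b) = toM a * toM b := by
  ext i k
  rw [mul_apply, Fin.sum_univ_five]
  change bz ((tm a b 0 0 ^^^ tm a b 1 5 ^^^ tm a b 2 10 ^^^ tm a b 3 15 ^^^ tm a b 4 20).testBit _) = _
  simp only [Nat.testBit_xor, (tm_spec ..).2, bz_xor, bz_and, toM]
  change _ = bz (a.testBit (_ + 0)) * bz (b.testBit (0 + _)) + bz (a.testBit (_ + 4)) * bz (b.testBit (20 + _)) +
    bz (a.testBit (_ + 1)) * bz (b.testBit (5 + _)) + bz (a.testBit (_ + 2)) * bz (b.testBit (10 + _)) +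
    bz (a.testBit (_ + 3)) * bz (b.testBit (15 + _))
  ring

theorem toM_inj {a b : ℕ} (ha : a < 2 ^ 25) (hb : b < 2 ^ 25) (h : toM a = toM b) : a = b := by
  refine Nat.eq_of_testBit_eq fun m => ?_
  by_cases hm : m < 25
  · obtain ⟨i, j, rfl⟩ : ∃ i j : Fin 5, m = 5 * pi5 i + pi5 j := by revert m; decide
    exact bz_inj _ _ (congrFun (congrFun h i) j)
  · rw [Nat.testBit_lt_two_pow (ha.trans_le (Nat.pow_le_pow_right (by norm_num) (not_lt.1 hm))),
      Nat.testBit_lt_two_pow (hb.trans_le (Nat.pow_le_pow_right (by norm_num) (not_lt.1 hm)))]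

def TB : ℕ := nat_lit 0x3c5a66665a3c003c0096aa96aa3c005a9600cc965acc0066aacc0066aacc006696966600f0f0005aaa5aaaf000f0003c3cccccf0f000000000000000000000
def IT : ℕ := nat_lit 0x3dc5ebf3380000007d40073bb801e2000027556000023d7200006f75e000062f3200003540057a9803a20000001d47aad728000000000000000000000000003bc6e7f5380000000000000000000000ee800006b0053df2005a80166005b80162007e800006f0052fb200ca8032e00c9803220000001f46aed5280000000000000000000000007cc00757b802e200f5800005d0033ef2000000000000000000005727800005f238000077800007d0072eb2000035c0055e9802a200d56e80000cd6280000000000000000000000004ae3a000043e7200998026a009b80262008f4b800009f4380000000000000000000000004be7a000042e32008b8022a008980222009d4a800008d4280000000000000000000000006ef3e00006375200bd800005f00337d200af800007b00735d2000027d7600002355200000000000000000000ab35bac56000000000b97c9e4720000000000000000000000000000058c006772803c200d18034e00d280342000059c0063f2801c2005380146005280142007359bcc66000000000000000000000000000f1589c46200000000000000000000000000000002b87c76730000000002f85cf63300000ce6f00000d663000005e27000005623000007a7d2e874000000000ea352a854000000000000000000000000000000000000000000000000000000000000000000000000000000000000000000000000000000000000000000000000000000000000000000000000000000000000000000000000000000000000000000000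
def sh (n k m : ℕ) : ℕ := Nat.land (Nat.shiftRight n k) m
def mid (n : ℕ) : ℕ := Nat.add (Nat.add (sh n (nat_lit 6) (nat_lit 7)) (sh n (nat_lit 8) (nat_lit 56))) (sh n (nat_lit 10) (nat_lit 448))
def lq (n : ℕ) : ℕ := Nat.add (Nat.add (Nat.add (sh n (nat_lit 1) (nat_lit 15)) (sh n (nat_lit 5) (nat_lit 16))) (sh n (nat_lit 9) (nat_lit 32)))
  (sh n (nat_lit 13) (nat_lit 64))
def ul (n m k : ℕ) : ℕ := Nat.shiftLeft (Nat.land n m) k
def cdA (A : ℕ) : ℕ := Nat.add (Nat.add (Nat.add (nat_lit 0x1000001) (ul A (nat_lit 7) (nat_lit 6))) (ul A (nat_lit 56) (nat_lit 8)))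
  (ul A (nat_lit 448) (nat_lit 10))
def cdq (q : ℕ) : ℕ := Nat.add (Nat.add (Nat.add (ul q (nat_lit 15) (nat_lit 1)) (ul q (nat_lit 16) (nat_lit 5))) (ul q (nat_lit 32) (nat_lit 9)))
  (ul q (nat_lit 64) (nat_lit 13))
def code (A q : ℕ) : ℕ := Nat.xor (cdA A) (cdq q)
def tb (A : ℕ) : Bool := Nat.beq (sh TB A (nat_lit 1)) (nat_lit 1)
noncomputable def goodB (n : ℕ) : Bool := band (Nat.beq (code (mid n) (lq n)) n) (tb (mid n))
/-- inverse of a packed element -/
def ivD (n : ℕ) : ℕ := cdA (sh IT (Nat.mul (nat_lit 9) (mid n)) (nat_lit 511))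
def cube (q : ℕ) : ℕ := mm q (mm q q)
def iv' (n : ℕ) : ℕ := mm (ivD n) (cube (mm n (ivD n)))

def mA (A : ℕ) : Matrix (Fin 3) (Fin 3) (ZMod 2) := fun i j => bz (A.testBit (3 * i + j))
def mx (q : ℕ) : Fin 7 → ZMod 2 := fun i => bz (q.testBit ((![3, 0, 1, 2, 4, 5, 6] : Fin 7 → ℕ) i))
theorem code_spec : ∀ A < 512, ∀ q < 128, code A q < 2 ^ 25 ∧ mid (code A q) = A ∧ lq (code A q) = q := by
  have : allN 512 (fun A => allN 128 fun q => decide (code A q < 2 ^ 25 ∧ mid (code A q) = A ∧ lq (code A q) = q)) = true := by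
    decide +kernel
  exact fun A hA q hq => of_decide_eq_true (allN_iff.1 (allN_iff.1 this A hA) q hq)
theorem cdA_spec : ∀ A < 512, toM (cdA A) = mk5 0 (mA A) ∧ ((mA A).det = 1 ↔ tb A = true) := by
  simp only [det_fin_three]; decide +kernel
theorem cdq_spec : ∀ q < 128, toM (cdq q) + mk5 0 0 = mk5 (mx q) 0 := by decide +kernel
theorem toM_code {A q : ℕ} (hA : A < 512) (hq : q < 128) : toM (code A q) = mk5 (mx q) (mA A) := by
  have e : toM (code A q) = toM (cdA A) + toM (cdq q) := by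
    ext i j
    change bz ((cdA A ^^^ cdq q).testBit _) = _
    rw [Nat.testBit_xor, bz_xor]; rfl
  rw [e, (cdA_spec A hA).1, ← add_left_inj (mk5 0 0), add_assoc, cdq_spec q hq]
  ext i j; fin_cases i <;> fin_cases j <;> simp [mk5]
theorem mid_lt (n : ℕ) : mid n < 512 := by
  have h1 : sh n 6 7 ≤ 7 := Nat.and_le_right
  have h2 : sh n 8 56 ≤ 56 := Nat.and_le_right
  have h3 : sh n 10 448 ≤ 448 := Nat.and_le_right
  change sh n 6 7 + sh n 8 56 + sh n 10 448 < 512; omega
theorem lq_lt (n : ℕ) : lq n < 128 := by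
  have h1 : sh n 1 15 ≤ 15 := Nat.and_le_right
  have h2 : sh n 5 16 ≤ 16 := Nat.and_le_right
  have h3 : sh n 9 32 ≤ 32 := Nat.and_le_right
  have h4 : sh n 13 64 ≤ 64 := Nat.and_le_right
  change sh n 1 15 + sh n 5 16 + sh n 9 32 + sh n 13 64 < 128; omega

theorem ex_mx (x : Fin 7 → ZMod 2) : ∃ q < 128, x = mx q := by
  have h : ∀ a b c d e f g : ZMod 2, (fun q => q < 128 ∧ ![a, b, c, d, e, f, g] = mx q)
    (8 * a.val + b.val + 2 * c.val + 4 * d.val + 16 * e.val + 32 * f.val + 64 * g.val) := by decide +kernel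
  have := h (x 0) (x 1) (x 2) (x 3) (x 4) (x 5) (x 6)
  exact ⟨_, this.1, Eq.trans (by ext i; fin_cases i <;> rfl) this.2⟩
theorem ex_mA (A : Matrix (Fin 3) (Fin 3) (ZMod 2)) : ∃ B < 512, A = mA B := by
  have h : ∀ a b c d e f g h i : ZMod 2, (fun q => q < 512 ∧ !![a, b, c; d, e, f; g, h, i] = mA q)
    (a.val + 2 * b.val + 4 * c.val + 8 * d.val + 16 * e.val + 32 * f.val + 64 * g.val + 128 * h.val + 256 * i.val) := by decide +kernel
  have := h (A 0 0) (A 0 1) (A 0 2) (A 1 0) (A 1 1) (A 1 2) (A 2 0) (A 2 1) (A 2 2)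
  exact ⟨_, this.1, (eta_fin_three A).trans this.2⟩

def good (n : ℕ) : Prop := n < 2 ^ 25 ∧ (toM n).det = 1 ∧ ∃ x A, toM n = mk5 x A

theorem good_iff {n : ℕ} : good n ↔ ∃ A < 512, tb A = true ∧ ∃ q < 128, n = code A q := by
  constructor
  · rintro ⟨h1, h2, x, A, e⟩
    obtain ⟨q, hq, rfl⟩ := ex_mx x
    obtain ⟨B, hB, rfl⟩ := ex_mA A
    exact ⟨B, hB, (cdA_spec B hB).2.1 (by rw [← det_mk5 (mx q), ← e, h2]), q, hq,
      toM_inj h1 (code_spec B hB q hq).1 (e.trans (toM_code hB hq).symm)⟩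
  · rintro ⟨A, hA, h, q, hq, rfl⟩
    exact ⟨(code_spec A hA q hq).1, by rw [toM_code hA hq, det_mk5, (cdA_spec A hA).2.2 h], _, _, toM_code hA hq⟩

theorem goodB_iff {n : ℕ} : goodB n = true ↔ good n := by
  rw [goodB, band_eq, Bool.and_eq_true, Nat.beq_eq, good_iff]
  exact ⟨fun h => ⟨_, mid_lt n, h.2, _, lq_lt n, h.1.symm⟩, fun ⟨A, hA, h, q, hq, e⟩ => by
    rw [e, (code_spec A hA q hq).2.1, (code_spec A hA q hq).2.2]; exact ⟨rfl, h⟩⟩

abbrev SL5 := SpecialLinearGroup (Fin 5) (ZMod 2)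
def s0 : SL5 := ⟨transvection 0 1 1, det_transvection_of_ne 0 1 (by decide) 1⟩

def toS' (n : ℕ) (h : (toM n).det = 1) : SL5 := ⟨toM n, h⟩

theorem good_mm {a b : ℕ} (ha : good a) (hb : good b) : good (mm a b) := by
  have h : (toM (mm a b)).det = 1 := by rw [toM_mm, det_mul, ha.2.1, hb.2.1, one_mul]
  refine ⟨mm_lt a b, h, (mem_cent (s := s0) rfl (g := toS' _ h)).1 ?_⟩
  rw [show toS' _ h = toS' _ ha.2.1 * toS' _ hb.2.1 from Subtype.ext (toM_mm a b)]
  exact mul_mem ((mem_cent rfl).2 ha.2.2) ((mem_cent rfl).2 hb.2.2)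

theorem iv_spec {n : ℕ} (h : good n) : goodB (iv' n) = true ∧ mm (iv' n) n = 0x1041041 := by
  have : allN 512 (fun A => bif' (tb A) (allN 128 fun q => band (goodB (iv' (code A q))) (Nat.beq (mm (iv' (code A q)) (code A q)) 0x1041041))
    true) = true := by decide +kernel
  obtain ⟨A, hA, h1, q, hq, rfl⟩ := good_iff.1 h
  have := allN_iff.1 this A hA
  rw [h1, bif'_true] at this
  simpa using allN_iff.1 this q hq

@[ext] structure HH where
  n : ℕ
  ok : good n

instance mulHH : Mul HH := ⟨fun x y => ⟨mm x.n y.n, good_mm x.ok y.ok⟩⟩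
instance oneHH : One HH := ⟨⟨nat_lit 0x1041041, goodB_iff.1 (by decide +kernel)⟩⟩
instance invHH : Inv HH := ⟨fun x => ⟨iv' x.n, goodB_iff.1 (iv_spec x.ok).1⟩⟩
theorem toM_one : toM 0x1041041 = 1 := by decide +kernel

instance groupHH : Group HH := Group.ofLeftAxioms
  (fun x y w => HH.ext (toM_inj (mm_lt ..) (mm_lt ..) (by
    change toM (mm (mm _ _) _) = toM (mm _ (mm _ _)); simp only [toM_mm, mul_assoc])))
  (fun x => HH.ext (toM_inj (mm_lt ..) x.ok.1 (by change toM (mm 0x1041041 _) = _; rw [toM_mm, toM_one, one_mul])))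
  (fun x => HH.ext (iv_spec x.ok).2)

instance decEqHH : DecidableEq HH := fun x y => decidable_of_iff (Nat.beq x.n y.n = true) (by rw [Nat.beq_eq, HH.ext_iff])
/-- the element with code `n` -/
noncomputable def mk (n : ℕ) : HH := if h : goodB n = true then ⟨n, goodB_iff.1 h⟩ else 1
theorem mk_n (x : HH) : mk x.n = x := dif_pos (goodB_iff.2 x.ok)
def CQ : ℕ := nat_lit 0x8421e8421c8421a84218842168421484212842108420e8420c8420a84208842068420484202842008401e8401c8401a84018840168401484012840108400e8400c8400a84008840068400484002840008021e8021c8021a80218802168021480212802108020e8020c8020a80208802068020480202802008001e8001c8001a80018800168001480012800108000e8000c8000a80008800068000480002800000421e0421c0421a04218042160421404212042100420e0420c0420a04208042060420404202042000401e0401c0401a04018040160401404012040100400e0400c0400a04008040060400404002040000021e0021c0021a00218002160021400212002100020e0020c0020a00208002060020400202002000001e0001c0001a00018000160001400012000100000e0000c0000a0000800006000040000200000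
def cq (q : ℕ) : ℕ := sh CQ (Nat.mul (nat_lit 20) q) (nat_lit 0xfffff)
theorem cq_eq : ∀ q < 128, cq q = cdq q := by decide +kernel
theorem cq_ex (q : ℕ) : ∃ r < 128, cq q = cdq r := by
  by_cases h : q < 128
  · exact ⟨q, h, cq_eq q h⟩
  · refine ⟨0, by norm_num, ?_⟩
    change (CQ >>> (20 * q)) &&& _ = _
    rw [Nat.shiftRight_eq_zero _ _ (lt_of_lt_of_le (b := 2 ^ (20 * 128)) (by decide +kernel)
      (Nat.pow_le_pow_right (by norm_num) (by omega))), Nat.zero_and]; rfl
def el (A : ℕ) (h : A < 512 ∧ tb A = true) (q : ℕ) : HH :=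
  ⟨Nat.xor (cdA A) (cq q), let ⟨r, hr, e⟩ := cq_ex q; good_iff.2 ⟨A, h.1, h.2, r, hr, by rw [e]; rfl⟩⟩
theorem ex_el (x : HH) : ∃ A h, ∃ q < 128, x = el A h q :=
  let ⟨A, hA, h, q, hq, e⟩ := good_iff.1 x.ok; ⟨A, ⟨hA, h⟩, q, hq, HH.ext (by rw [e, code, ← cq_eq q hq]; rfl)⟩
noncomputable instance decAllHH (P : HH → Prop) [DecidablePred P] : Decidable (∀ x, P x) :=
  decidable_of_iff (allN 512 (fun A => if h : A < 512 ∧ tb A = true then allN 128 fun q => decide (P (el A h q)) else true) = true)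
    ⟨fun h x => by
      obtain ⟨A, hA, q, hq, rfl⟩ := ex_el x
      have := allN_iff.1 h A hA.1
      rw [dif_pos hA] at this
      exact of_decide_eq_true (allN_iff.1 this q hq),
    fun h => allN_iff.2 fun A _ => by
      split_ifs
      exacts [allN_iff.2 fun _ _ => decide_eq_true (h _), rfl]⟩
noncomputable instance decExHH (P : HH → Prop) [DecidablePred P] : Decidable (∃ x, P x) :=
  decidable_of_iff (¬ ∀ x, ¬ P x) (by simp)

/-- the embedding in `SL₅(2)` -/
noncomputable def toS : HH →* SL5 where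
  toFun x := ⟨toM x.n, x.ok.2.1⟩
  map_one' := Subtype.ext toM_one
  map_mul' x y := Subtype.ext (toM_mm x.n y.n)

theorem toS_inj : Function.Injective toS := fun x y h => HH.ext (toM_inj x.ok.1 y.ok.1 (congrArg Subtype.val h))

theorem toS_range {s : SL5} (hs : (s : Matrix (Fin 5) (Fin 5) (ZMod 2)) = transvection 0 1 1) :
    toS.range = Subgroup.centralizer {s} := by
  ext g
  rw [mem_cent hs]
  refine ⟨fun ⟨x, e⟩ => e ▸ x.ok.2.2, fun ⟨x, A, e⟩ => ?_⟩
  obtain ⟨q, hq, rfl⟩ := ex_mx x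
  obtain ⟨B, hB, rfl⟩ := ex_mA A
  exact ⟨⟨code B q, good_iff.2 ⟨B, hB, (cdA_spec B hB).2.1 (by rw [← det_mk5 (mx q), ← e, g.2]), q, hq, rfl⟩⟩,
    Subtype.ext ((toM_code hB hq).trans e.symm)⟩

instance finiteHH : Finite HH := Finite.of_injective _ toS_inj
theorem card_HH : Nat.card HH = 21504 := by
  rw [← card_cent (s := s0) rfl, ← toS_range (s := s0) rfl]; exact Nat.card_congr (MonoidHom.ofInjective toS_inj).toEquiv

/-- `1 + E12` -/
def a0 : HH := ⟨nat_lit 0x1041043, goodB_iff.1 (by decide +kernel)⟩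
/-- `1 + E23` -/
def b0 : HH := ⟨nat_lit 0x10410c1, goodB_iff.1 (by decide +kernel)⟩
/-- `1 + E34` -/
def c0 : HH := ⟨nat_lit 0x1043041, goodB_iff.1 (by decide +kernel)⟩
/-- `1 + E45` -/
def d0 : HH := ⟨nat_lit 0x10c1041, goodB_iff.1 (by decide +kernel)⟩
/-- `1 + E13` -/
def e0 : HH := ⟨nat_lit 0x1041045, goodB_iff.1 (by decide +kernel)⟩
/-- `1 + E24` -/
def f0 : HH := ⟨nat_lit 0x1041141, goodB_iff.1 (by decide +kernel)⟩
/-- `1 + E35` -/
def g0 : HH := ⟨nat_lit 0x1045041, goodB_iff.1 (by decide +kernel)⟩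
/-- `1 + E14` -/
def h0 : HH := ⟨nat_lit 0x1041049, goodB_iff.1 (by decide +kernel)⟩
/-- `1 + E25` -/
def i0 : HH := ⟨nat_lit 0x1041241, goodB_iff.1 (by decide +kernel)⟩
/-- `1 + E15` -/
def z0 : HH := ⟨nat_lit 0x1041051, goodB_iff.1 (by decide +kernel)⟩
/-- `1 + E32` -/
def m0 : HH := ⟨nat_lit 0x1041841, goodB_iff.1 (by decide +kernel)⟩
/-- `1 + E43` -/
def n0 : HH := ⟨nat_lit 0x1061041, goodB_iff.1 (by decide +kernel)⟩

theorem toS_z : toS z0 = s0 := Subtype.ext (by decide +kernel)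
theorem z0_comm : ∀ k : HH, k * z0 = z0 * k := by decide +kernel

def atp (n : ℕ) : ℕ := Nat.xor (Nat.xor (Nat.xor (Nat.xor (Nat.xor (Nat.xor (Nat.xor (Nat.xor (Nat.shiftLeft (Nat.land n (nat_lit 1)) (nat_lit 24))
  (Nat.shiftLeft (Nat.land n (nat_lit 34)) (nat_lit 18)))
  (Nat.shiftLeft (Nat.land n (nat_lit 1092)) (nat_lit 12)))
  (Nat.shiftLeft (Nat.land n (nat_lit 34952)) (nat_lit 6)))
  (Nat.shiftLeft (Nat.land n (nat_lit 1118480)) (nat_lit 0)))
  (Nat.shiftRight (Nat.land n (nat_lit 2236928)) (nat_lit 6)))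
  (Nat.shiftRight (Nat.land n (nat_lit 4472832)) (nat_lit 12)))
  (Nat.shiftRight (Nat.land n (nat_lit 8912896)) (nat_lit 18)))
  (Nat.shiftRight (Nat.land n (nat_lit 16777216)) (nat_lit 24))
def rh : Fin 5 → Fin 5 := ![1, 0, 4, 3, 2]
theorem toM_atp (n : ℕ) (i j : Fin 5) : toM (atp n) i j = toM n (rh j) (rh i) := by
  change bz (((n &&& 1) <<< 24 ^^^ (n &&& 34) <<< 18 ^^^ (n &&& 1092) <<< 12 ^^^ (n &&& 34952) <<< 6 ^^^ (n &&& 1118480) <<< 0 ^^^ (n &&& 2236928) >>> 6 ^^^ (n &&& 4472832) >>> 12 ^^^ (n &&& 8912896) >>> 18 ^^^ (n &&& 16777216) >>> 24).testBit _) = bz _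
  simp only [Nat.testBit_xor, Nat.testBit_shiftLeft, Nat.testBit_shiftRight, Nat.testBit_and]
  fin_cases i <;> fin_cases j <;> simp [pi5, rh, Nat.testBit_eq_decide_div_mod_eq]
theorem atp_spec : ∀ x : HH, goodB (atp x.n) = true ∧ atp (atp x.n) = x.n := by decide +kernel
def at' (x : HH) : HH := ⟨atp x.n, goodB_iff.1 (atp_spec x).1⟩
theorem at_mul (x y : HH) : at' (x * y) = at' y * at' x := HH.ext (toM_inj (at' _).ok.1 (mm_lt ..) (by
  ext i k
  change toM (atp (mm _ _)) i k = toM (mm (atp _) (atp _)) i k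
  rw [toM_atp, toM_mm, toM_mm, mul_apply, mul_apply, Fin.sum_univ_five, Fin.sum_univ_five]
  simp only [toM_atp]
  rw [show rh 0 = 1 from rfl, show rh 1 = 0 from rfl, show rh 2 = 4 from rfl, show rh 3 = 3 from rfl, show rh 4 = 2 from rfl]
  ring))
/-- the graph automorphism -/
def τ : HH →* HH := MonoidHom.mk' (fun x => at' x⁻¹) fun x y => by rw [_root_.mul_inv_rev, at_mul]
theorem τ_τ (x : HH) : τ (τ x) = x := by
  have h : at' x⁻¹ * at' x = 1 := by rw [← at_mul, mul_inv_cancel]; decide +kernel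
  change at' (at' x⁻¹)⁻¹ = x
  rw [inv_eq_of_mul_eq_one_right h]; exact HH.ext (atp_spec x).2

end Cfsg.Lib.Held
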