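import Cfsg.Agent.Lib.Held.Defs
import Cfsg.Agent.Lib.JT.Id1

/-! # Coordinates on an extraspecial group of order 128 with an automorphism of order 7 -/

set_option autoImplicit false
set_option maxRecDepth 100000

namespace Cfsg.Lib.Held

open Subgroup Cfsg.Lib.Known2 Cfsg.Lib.Golay Cfsg.Lib.JT

def SG : ℕ := nat_lit 0xcc33cc3333cc33cc6699669999669966aa55aa5555aa55aa00ff00ffff00ff005aa55aa5a55aa55af00ff00f0ff00ff03cc33cc3c33cc33c9669966969966996a5a5a5a55a5a5a5a0f0f0f0ff0f0f0f0c3c3c3c33c3c3c3c696969699696969633333333cccccccc999999996666666655555555aaaaaaaaffffffff000000005a5aa5a5a5a55a5af0f00f0f0f0ff0f03c3cc3c3c3c33c3c9696696969699696cccc33333333cccc6666999999996666aaaa55555555aaaa0000ffffffff000033cccc33cc3333cc996666996699996655aaaa55aa5555aaff0000ff00ffff00a55a5aa55aa5a55a0ff0f00ff00f0ff0c33c3cc33cc3c33c6996966996696996a5a55a5aa5a55a5a0f0ff0f00f0ff0f0c3c33c3cc3c33c3c69699696696996963333cccc3333cccc99996666999966665555aaaa5555aaaaffff0000ffff0000cc3333cccc3333cc6699996666999966aa5555aaaa5555aa00ffff0000ffff005aa5a55a5aa5a55af00f0ff0f00f0ff03cc3c33c3cc3c33c966969969669699633cc33cc33cc33cc996699669966996655aa55aa55aa55aaff00ff00ff00ff00a55aa55aa55aa55a0ff00ff00ff00ff0c33cc33cc33cc33c69966996699669965a5a5a5a5a5a5a5af0f0f0f0f0f0f0f03c3c3c3c3c3c3c3c9696969696969696cccccccccccccccc6666666666666666aaaaaaaaaaaaaaaa0000000000000000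
/-- product of codes -/
def qm (a b : ℕ) : ℕ := Nat.xor (Nat.xor a b)
  (sh SG (Nat.add (Nat.mul (nat_lit 64) (Nat.shiftRight a (nat_lit 1))) (Nat.shiftRight b (nat_lit 1))) (nat_lit 1))
def fld (P i : ℕ) : ℕ := sh P (Nat.mul (nat_lit 7) i) (nat_lit 127)
def sel (q k n : ℕ) : ℕ := Nat.mul n (sh q k (nat_lit 1))
/-- the automorphism with packed images `P` of the generators -/
def xt (P q : ℕ) : ℕ := qm (qm (qm (qm (qm (qm (sel q 1 (fld P 0)) (sel q 2 (fld P 1))) (sel q 3 (fld P 2))) (sel q 4 (fld P 3)))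
  (sel q 5 (fld P 4))) (sel q 6 (fld P 5))) (Nat.land q 1)
def P0 : ℕ := nat_lit 0x20202020202
def wtq : ℕ → ℕ → ℕ
  | 0, _ => 0
  | k + 1, n => wtq k n + (n.testBit k).toNat
def sgq : ℕ → ℕ → ℕ → ℕ
  | 0, _, _ => 0
  | k + 1, a, b => sgq k a b + if a.testBit k then wtq (k + 1) b else 0

theorem qm_spec : ∀ a < 128, ∀ b < 128, qm a b < 128 ∧ qm a b / 2 = (a / 2) ^^^ (b / 2) ∧
    qm a b % 2 = (sgq 6 (a / 2) (b / 2) + a + b) % 2 := by
  have : allN 128 (fun a => allN 128 fun b => decide (qm a b < 128 ∧ qm a b / 2 = (a / 2) ^^^ (b / 2) ∧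
    qm a b % 2 = (sgq 6 (a / 2) (b / 2) + a + b) % 2)) = true := by decide +kernel
  exact fun a ha b hb => of_decide_eq_true (allN_iff.1 (allN_iff.1 this a ha) b hb)
theorem qm_lt {a b : ℕ} (ha : a < 128) (hb : b < 128) : qm a b < 128 := (qm_spec a ha b hb).1
theorem fld_lt (P i : ℕ) : fld P i < 128 := Nat.lt_succ_of_le Nat.and_le_right
theorem sel_eq (q k n : ℕ) : sel q k n = 0 ∧ (∀ m, sel q k m = 0) ∨ sel q k n = n ∧ ∀ m, sel q k m = m := by
  have : sh q k 1 ≤ 1 := Nat.and_le_right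
  have e : ∀ m, sel q k m = m * sh q k 1 := fun _ => rfl
  simp only [e]
  interval_cases sh q k 1 <;> simp
theorem sel_lt (q k : ℕ) {n : ℕ} (h : n < 128) : sel q k n < 128 := by
  rcases sel_eq q k n with ⟨e, -⟩ | ⟨e, -⟩ <;> rw [e] <;> omega
theorem land_lt (q : ℕ) : Nat.land q 1 < 2 := Nat.lt_succ_of_le Nat.and_le_right
theorem xt_lt (P q : ℕ) : xt P q < 128 := by
  have s := fun k i => sel_lt q k (fld_lt P i)
  exact qm_lt (qm_lt (qm_lt (qm_lt (qm_lt (qm_lt (s _ _) (s _ _)) (s _ _)) (s _ _)) (s _ _)) (s _ _)) ((land_lt q).trans (by norm_num))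
theorem xt_P0 : ∀ q < 128, xt P0 q = q := by decide +kernel
theorem qm_ker : ∀ a < 128, a = 0 ∨ a = 1 ∨ ∃ i < 6, qm a (fld P0 i) = qm (qm (fld P0 i) a) 1 := by decide +kernel
theorem qm_inv : ∀ a < 128, ∀ b < 128, a = b ∨ ∃ c < 128, qm a c = 0 ∧ qm b c ≠ 0 := by
  have : allN 128 (fun a => allN 128 fun b => decide (a = b ∨ qm a (qm a (qm a a)) = 0 ∧ qm b (qm a (qm a a)) ≠ 0)) = true := by
    decide +kernel
  exact fun a ha b hb => (of_decide_eq_true (allN_iff.1 (allN_iff.1 this a ha) b hb)).imp_right fun h =>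
    ⟨_, qm_lt ha (qm_lt ha ha), h⟩

variable {H : Type*} [Group H] {z : H}

/-- `θ` is a coordinate system on a copy of `2^{1+6}_+` with centre `z` central in `H` -/
structure TH (z : H) (θ : ℕ → H) : Prop where
  ne : z ≠ 1
  cen : ∀ g, g * z = z * g
  one : θ 0 = 1
  zz : θ 1 = z
  mul : ∀ a < 128, ∀ b < 128, θ a * θ b = θ (qm a b)

namespace TH
variable {θ : ℕ → H} (h : TH z θ)
include h

theorem sq : z * z = 1 := by rw [← h.zz, h.mul 1 (by norm_num) 1 (by norm_num), ← h.one]; rfl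
theorem cz (g : H) : g * z * g⁻¹ = z := by rw [h.cen, mul_inv_cancel_right]
theorem mz {a : ℕ} (ha : a < 128) : θ a * z = θ (qm a 1) := by rw [← h.zz, h.mul a ha 1 (by norm_num)]
theorem ker {a : ℕ} (ha : a < 128) (e : θ a = 1) : a = 0 := by
  rcases qm_ker a ha with e' | rfl | ⟨i, -, e'⟩
  · exact e'
  · exact absurd (h.zz.symm.trans e) h.ne
  · have := congrArg θ e'
    rw [← h.mz (qm_lt (fld_lt ..) ha), ← h.mul _ ha _ (fld_lt ..), ← h.mul _ (fld_lt ..) _ ha, e, one_mul, mul_one] at this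
    exact absurd (left_eq_mul.1 this) h.ne
theorem inj {a b : ℕ} (ha : a < 128) (hb : b < 128) (e : θ a = θ b) : a = b := by
  refine (qm_inv a ha b hb).resolve_right fun ⟨c, hc, e1, e2⟩ => e2 (h.ker (qm_lt hb hc) ?_)
  rw [← h.mul b hb c hc, ← e, h.mul a ha c hc, e1, h.one]
theorem xt_eq (P q : ℕ) : θ (xt P q) = θ (sel q 1 (fld P 0)) * θ (sel q 2 (fld P 1)) * θ (sel q 3 (fld P 2)) * θ (sel q 4 (fld P 3)) *
    θ (sel q 5 (fld P 4)) * θ (sel q 6 (fld P 5)) * θ (Nat.land q 1) := by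
  have s := fun k i => sel_lt q k (fld_lt P i)
  have s1 := qm_lt (s 1 0) (s 2 1); have s2 := qm_lt s1 (s 3 2); have s3 := qm_lt s2 (s 4 3); have s4 := qm_lt s3 (s 5 4)
  have s5 := qm_lt s4 (s 6 5)
  rw [h.mul _ (s _ _) _ (s _ _), h.mul _ s1 _ (s _ _), h.mul _ s2 _ (s _ _), h.mul _ s3 _ (s _ _), h.mul _ s4 _ (s _ _),
    h.mul _ s5 _ ((land_lt q).trans (by norm_num))]; rfl
theorem ext {g : H} {P : ℕ} (e : ∀ i < 6, g * θ (fld P0 i) * g⁻¹ = θ (fld P i)) {q : ℕ} (hq : q < 128) :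
    g * θ q * g⁻¹ = θ (xt P q) := by
  have k : ∀ k, ∀ i < 6, g * θ (sel q k (fld P0 i)) * g⁻¹ = θ (sel q k (fld P i)) := fun k i hi => by
    rcases sel_eq q k 0 with ⟨-, e'⟩ | ⟨-, e'⟩ <;> rw [e', e']
    exacts [by simp [h.one], e i hi]
  have k' : g * θ (Nat.land q 1) * g⁻¹ = θ (Nat.land q 1) := by
    have := land_lt q
    generalize Nat.land q 1 = r at this
    interval_cases r
    exacts [by simp [h.one], by rw [h.zz, h.cz]]
  nth_rw 1 [← xt_P0 q hq]
  rw [h.xt_eq, h.xt_eq, ← k 1 0 (by norm_num), ← k 2 1 (by norm_num), ← k 3 2 (by norm_num), ← k 4 3 (by norm_num),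
    ← k 5 4 (by norm_num), ← k 6 5 (by norm_num)]
  nth_rw 2 [← k']
  simp only [conj_mul]
end TH

def pr (y : ℕ → H) : ℕ → ℕ → H
  | 0, _ => 1
  | k + 1, n => pr y k n * if n.testBit k then y k else 1
/-- the coordinate system defined by six generators -/
def th (z : H) (y : ℕ → H) (n : ℕ) : H := pr y 6 (n / 2) * z ^ n

theorem th_spec {y : ℕ → H} (z1 : z ≠ 1) (z2 : z * z = 1) (hz : ∀ g, g * z = z * g) (ys : ∀ i < 6, y i * y i = z)
    (ya : ∀ i < 6, ∀ j < i, y i * y j = y j * y i * z) : TH z (th z y) := by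
  have cm : ∀ (g : H) (n : ℕ), z ^ n * g = g * z ^ n := fun g n => ((show Commute g z from hz g).pow_right n).symm
  have c1 : ∀ j < 6, ∀ n, ∀ k ≤ j, y j * pr y k n = pr y k n * y j * z ^ wtq k n := fun j hj n k hk => by
    induction k with
    | zero => simp [pr, wtq]
    | succ k ih =>
      rw [pr, wtq, ← mul_assoc, ih (by omega)]
      cases n.testBit k
      · simp
      · simp only [if_true, Bool.toNat_true, pow_succ']
        rw [mul_assoc, cm, mul_assoc, ← mul_assoc (y j), ya j hj k hk]; group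
  have c2 : ∀ a b, ∀ k ≤ 6, pr y k a * pr y k b = pr y k (a ^^^ b) * z ^ sgq k a b := fun a b k hk => by
    induction k with
    | zero => simp [pr, sgq]
    | succ k ih =>
      have ih := ih (by omega)
      simp only [pr, sgq, wtq, Nat.testBit_xor]
      cases a.testBit k
      · simp only [Bool.false_eq_true, if_false, mul_one, add_zero, Bool.false_xor]
        rw [← mul_assoc, ih, mul_assoc, cm, mul_assoc]
      · simp only [if_true]
        rw [mul_assoc, ← mul_assoc (y k), c1 k hk b k le_rfl, ← mul_assoc, ← mul_assoc, ← mul_assoc, ih]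
        cases b.testBit k
        · simp only [Bool.false_eq_true, if_false, mul_one, Bool.xor_false, if_true, Bool.toNat_false, add_zero, pow_add]
          rw [mul_assoc (pr y k _), cm]; group
        · simp only [if_true, Bool.xor_self, Bool.false_eq_true, if_false, mul_one, Bool.toNat_true, pow_add, pow_one]
          rw [mul_assoc _ (z ^ wtq k b), cm (y k), mul_assoc _ (y k), ← mul_assoc (y k), ys k hk]; group
  have pz : ∀ m n : ℕ, m % 2 = n % 2 → z ^ m = z ^ n := fun m n e => by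
    rw [pow_eq_pow_mod m (show z ^ 2 = 1 by rw [pow_two, z2]), e, ← pow_eq_pow_mod n (show z ^ 2 = 1 by rw [pow_two, z2])]
  refine ⟨z1, hz, by simp [th, pr], by simp [th, pr], fun a ha b hb => ?_⟩
  obtain ⟨-, e1, e2⟩ := qm_spec a ha b hb
  rw [th, th, th, e1, pz _ _ e2, mul_assoc, ← mul_assoc (z ^ a), cm, mul_assoc, ← mul_assoc, c2 _ _ 6 le_rfl, pow_add, pow_add]
  group

theorem th_mem {y : ℕ → H} {M : Subgroup H} (hz : z ∈ M) (hy : ∀ i, y i ∈ M) (n : ℕ) : th z y n ∈ M := by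
  have : ∀ k n, pr y k n ∈ M := fun k n => by
    induction k with
    | zero => exact one_mem _
    | succ k ih => exact mul_mem ih (by split_ifs; exacts [hy _, one_mem _])
  exact mul_mem (this _ _) (pow_mem hz _)

theorem th_gen {y : ℕ → H} (z2 : z * z = 1) : ∀ i < 6, th z y (fld P0 i) = y i := fun i hi => by
  have : ∀ n, z ^ (2 * n) = 1 := fun n => by rw [pow_mul, pow_two, z2, one_pow]
  interval_cases i
  · change th z y (2 * 1) = _; rw [th, this]; simp +decide [pr]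
  · change th z y (2 * 2) = _; rw [th, this]; simp +decide [pr]
  · change th z y (2 * 4) = _; rw [th, this]; simp +decide [pr]
  · change th z y (2 * 8) = _; rw [th, this]; simp +decide [pr]
  · change th z y (2 * 16) = _; rw [th, this]; simp +decide [pr]
  · change th z y (2 * 32) = _; rw [th, this]; simp +decide [pr]

theorem th_top {y : ℕ → H} (z2 : z * z = 1) : th z y 126 = y 0 * y 1 * y 2 * y 3 * y 4 * y 5 := by
  rw [th, show z ^ 126 = 1 by rw [show 126 = 2 * 63 from rfl, pow_mul, pow_two, z2, one_pow]]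
  simp +decide [pr]

end Cfsg.Lib.Held
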