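import Cfsg.Agent.Lib.Held.Id1

/-! # The heptagon in `2^{1+6}` -/

set_option autoImplicit false
set_option maxRecDepth 100000

namespace Cfsg.Lib.Held

open Subgroup Cfsg.Lib.Known2 Cfsg.Lib.Golay Cfsg.Lib.JT

variable {H : Type*} [Group H] {Q : Subgroup H} {z : H}

open Classical in
noncomputable def bb (x y : H) : ZMod 2 := if x * y = y * x then 0 else 1
open Classical in
noncomputable def kk (x : H) : ZMod 2 := if x * x = 1 then 0 else 1

theorem bb_zero {x y : H} : bb x y = 0 ↔ x * y = y * x := by unfold bb; split_ifs with h <;> simp [h]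
theorem bb_one {x y : H} : bb x y = 1 ↔ x * y ≠ y * x := by unfold bb; split_ifs with h <;> simp [h]
theorem kk_one {x : H} : kk x = 1 ↔ x * x ≠ 1 := by unfold kk; split_ifs with h <;> simp [h]
theorem bb_congr {x y x' y' : H} (h : x * y = y * x ↔ x' * y' = y' * x') : bb x y = bb x' y' := by
  classical exact if_congr h rfl rfl
theorem kk_congr {x x' : H} (h : x * x = 1 ↔ x' * x' = 1) : kk x = kk x' := by classical exact if_congr h rfl rfl
theorem bb_comm (x y : H) : bb x y = bb y x := bb_congr eq_comm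
theorem bb_self (x : H) : bb x x = 0 := bb_zero.2 rfl
theorem bb_conj (g x y : H) : bb (g * x * g⁻¹) (g * y * g⁻¹) = bb x y := bb_congr (by simp only [conj_mul, mul_left_inj, mul_right_inj])
theorem kk_conj (g x : H) : kk (g * x * g⁻¹) = kk x := kk_congr (by simp only [conj_mul, conj_eq_one_iff])
theorem bb_inv (x y : H) : bb x⁻¹ y = bb x y := bb_congr Commute.inv_left_iff
theorem kk_inv (x : H) : kk x⁻¹ = kk x := kk_congr (by rw [← mul_inv_rev, inv_eq_one])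
theorem bb_mul (h : ES Q z) {a x y : H} (ha : a ∈ Q) (hx : x ∈ Q) (hy : y ∈ Q) : bb a (x * y) = bb a x + bb a y := by
  have := h.mul_comm_iff ha hx hy
  unfold bb
  by_cases h1 : a * x = x * a <;> by_cases h2 : a * y = y * a
  · rw [if_pos (this.2 (iff_of_true h1 h2)), if_pos h1, if_pos h2]; rfl
  · rw [if_neg fun e => h2 ((this.1 e).1 h1), if_pos h1, if_neg h2]; rfl
  · rw [if_neg fun e => h1 ((this.1 e).2 h2), if_neg h1, if_pos h2]; rfl
  · rw [if_pos (this.2 (iff_of_false h1 h2)), if_neg h1, if_neg h2]; rfl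
theorem mul_bb (h : ES Q z) {a x y : H} (ha : a ∈ Q) (hx : x ∈ Q) (hy : y ∈ Q) : bb (x * y) a = bb x a + bb y a := by
  rw [bb_comm, bb_mul h ha hx hy, bb_comm a, bb_comm a]
theorem kk_mul (h : ES Q z) {x y : H} (hx : x ∈ Q) (hy : y ∈ Q) : kk (x * y) = kk x + kk y + bb x y := by
  have := es_sq_mul h hx hy
  unfold kk bb
  split_ifs with h1 h2 h3 h4 <;> first | rfl | tauto

/-- seven pairwise anticommuting square roots of `z` permuted by `U` -/
structure Hp (Q : Subgroup H) (z U : H) (Y : ℕ → H) : Prop where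
  mem : ∀ i, Y i ∈ Q
  sq : ∀ i, Y i * Y i = z
  anti : ∀ i < 7, ∀ j < i, Y i * Y j = Y j * Y i * z
  cj : ∀ i, U * Y i * U⁻¹ = Y (i + 1)

def cf (c1 c2 c3 : ZMod 2) (k : ℕ) : ZMod 2 := [0, c1, c2, c3, c3, c2, c1].getD (k % 7) 0
theorem cf_star : ∀ c1 c2 c3 : ZMod 2, c1 + c2 + c3 = 1 → ∃ t ∈ [(1, 3, 5), (2, 6, 3), (3, 2, 1), (0, 1, 1)],
    1 + (1 + 1 + cf c1 c2 c3 (t.2.2 + 6 * t.2.1)) + (cf c1 c2 c3 (t.2.1 + 6 * t.1) + cf c1 c2 c3 (t.2.2 + 6 * t.1)) = 1 ∧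
    ∀ i < 7, ∀ j < i, cf c1 c2 c3 (j + t.1 + 6 * (i + t.1)) + (cf c1 c2 c3 (j + t.2.1 + 6 * (i + t.1)) + cf c1 c2 c3 (j + t.2.2 + 6 * (i + t.1))) +
      (cf c1 c2 c3 (j + t.1 + 6 * (i + t.2.1)) + (cf c1 c2 c3 (j + t.2.1 + 6 * (i + t.2.1)) + cf c1 c2 c3 (j + t.2.2 + 6 * (i + t.2.1))) +
      (cf c1 c2 c3 (j + t.1 + 6 * (i + t.2.2)) + (cf c1 c2 c3 (j + t.2.1 + 6 * (i + t.2.2)) + cf c1 c2 c3 (j + t.2.2 + 6 * (i + t.2.2))))) = 1 := by
  decide +kernel

theorem exists_hp [hn : Q.Normal] (h : ES Q z) {U : H} (hz : U * z = z * U) (u7 : U ^ 7 = 1) (hU : ¬ ∀ x ∈ Q, U * x = x * U) :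
    ∃ Y, Hp Q z U Y := by
  have fQ : ∀ g, ∀ {x}, x ∈ Q → g * x * g⁻¹ ∈ Q := fun g x hx => hn.conj_mem _ hx g
  obtain ⟨a, ha, hb⟩ : ∃ a ∈ Q, bb a (U * a * U⁻¹) = 1 := by
    by_contra hc
    push Not at hc
    have h0 : ∀ a ∈ Q, bb a (U * a * U⁻¹) = 0 := fun a ha => by
      have := hc a ha; revert this; generalize bb a _ = t; revert t; decide
    have h1 : ∀ a ∈ Q, ∀ b ∈ Q, bb a (U * b * U⁻¹) = bb (U * a * U⁻¹) b := fun a ha b hb => by
      have := h0 _ (mul_mem ha hb)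
      rw [← conj_mul, bb_mul h (mul_mem ha hb) (fQ _ ha) (fQ _ hb), mul_bb h (fQ _ ha) ha hb, mul_bb h (fQ _ hb) ha hb, h0 a ha, h0 b hb,
        bb_comm b] at this
      revert this; generalize bb a _ = s; generalize bb _ b = t; revert s t; decide
    refine hU fun b hb => ?_
    have h2 : U * (U * b * U⁻¹) * U⁻¹ = b ∨ U * (U * b * U⁻¹) * U⁻¹ = z * b := by
      rcases h.of_cen _ (mul_mem (fQ U (fQ U hb)) (inv_mem hb)) (fun y hy => bb_zero.1 (by
        rw [mul_bb h hy (fQ U (fQ U hb)) (inv_mem hb), bb_inv, ← h1 _ (fQ U hb) _ hy, bb_conj]; exact CharTwo.add_self_eq_zero _)) with e | e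
      exacts [.inl (mul_inv_eq_one.1 e), .inr (mul_inv_eq_iff_eq_mul.1 e)]
    have h3 : U ^ 4 * b * (U ^ 4)⁻¹ = b := by
      have e4 : U ^ 4 * b * (U ^ 4)⁻¹ = U * (U * (U * (U * b * U⁻¹) * U⁻¹) * U⁻¹) * U⁻¹ := by simp [pow_succ, mul_assoc]
      have cz : U * z * U⁻¹ = z := by rw [hz, mul_inv_cancel_right]
      rcases h2 with e | e
      · rw [e4, e, e]
      · rw [e4, e, ← conj_mul (a := z), cz, ← conj_mul (a := z), cz, e, ← mul_assoc, h.sq, one_mul]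
    have h4 : Commute (U ^ 4) b := mul_inv_eq_iff_eq_mul.1 h3
    have := h4.pow_left 2
    rwa [← pow_mul, show 4 * 2 = 7 + 1 from rfl, pow_succ, u7, one_mul] at this
  let x := a⁻¹ * (U * a * U⁻¹)
  have hx : x ∈ Q := mul_mem (inv_mem ha) (fQ _ ha)
  obtain ⟨X, hX⟩ : ∃ X : ℕ → H, ∀ i, X i = U ^ i * x * (U ^ i)⁻¹ := ⟨_, fun _ => rfl⟩
  have XQ : ∀ i, X i ∈ Q := fun i => hX i ▸ fQ _ hx
  have kx : ∀ i, kk (X i) = 1 := fun i => by
    rw [hX, kk_conj, kk_mul h (inv_mem ha) (fQ _ ha), kk_inv, kk_conj, bb_inv, hb, CharTwo.add_self_eq_zero, zero_add]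
  have Xa : ∀ i j, U ^ i * X j * (U ^ i)⁻¹ = X (i + j) := fun i j => by simp only [hX, pow_add]; group
  have Xm : ∀ i, X i = X (i % 7) := fun i => by rw [hX, hX, pow_eq_pow_mod i u7]
  have sy : ∀ i j, i + j = 7 → bb (X 0) (X i) = bb (X 0) (X j) := fun i j e => by
    rw [← bb_conj (U ^ j), Xa, Xa, add_comm j i, e, Xm 7, bb_comm]; rfl
  have bX : ∀ i j, bb (X i) (X j) = cf (bb (X 0) (X 1)) (bb (X 0) (X 2)) (bb (X 0) (X 3)) (j + 6 * i) := fun i j => by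
    rw [← bb_conj (U ^ (6 * i)), Xa, Xa, Xm (6 * i + i), show (6 * i + i) % 7 = 0 by omega, Xm (6 * i + j), add_comm (6 * i), cf]
    have : (j + 6 * i) % 7 < 7 := Nat.mod_lt _ (by norm_num)
    generalize (j + 6 * i) % 7 = r at this
    interval_cases r
    exacts [bb_self _, rfl, rfl, rfl, sy 4 3 rfl, sy 5 2 rfl, sy 6 1 rfl]
  have hN : X 0 * (X 1 * (X 2 * (X 3 * (X 4 * (X 5 * X 6))))) = 1 := by
    calc _ = a⁻¹ * U ^ 7 * a * (U ^ 7)⁻¹ := by simp [hX, x, pow_succ, mul_assoc]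
      _ = 1 := by rw [u7]; group
  have hs : bb (X 0) (X 1) + bb (X 0) (X 2) + bb (X 0) (X 3) = 1 := by
    have := congrArg kk hN
    simp (disch := repeat' first | apply XQ | apply mul_mem) only [kk_mul h, bb_mul h, kx, show kk (1 : H) = 0 by simp [kk]] at this
    rw [bX 0 4, bX 0 5, bX 0 6, bX 1 2, bX 1 3, bX 1 4, bX 1 5, bX 1 6, bX 2 3, bX 2 4, bX 2 5, bX 2 6, bX 3 4, bX 3 5, bX 3 6, bX 4 5,
      bX 4 6, bX 5 6] at this
    revert this
    generalize bb (X 0) (X 1) = c1; generalize bb (X 0) (X 2) = c2; generalize bb (X 0) (X 3) = c3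
    revert c1 c2 c3; decide +kernel
  obtain ⟨⟨p, q, r⟩, -, t1, t2⟩ := cf_star _ _ _ hs
  have YQ : ∀ i, X (i + p) * (X (i + q) * X (i + r)) ∈ Q := fun i => mul_mem (XQ _) (mul_mem (XQ _) (XQ _))
  refine ⟨fun i => X (i + p) * (X (i + q) * X (i + r)), YQ, fun i => (h.sq_mem _ (YQ i)).resolve_left (kk_one.1 ?_),
    fun i hi j hj => h.anti (YQ i) (YQ j) (bb_one.1 ?_), fun i => ?_⟩
  · rw [← Xa, ← Xa, ← Xa, conj_mul, conj_mul, kk_conj]
    simp (disch := repeat' first | apply XQ | apply mul_mem) only [kk_mul h, bb_mul h, kx]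
    rw [bX q, bX p, bX p]; exact t1
  · simp (disch := repeat' first | apply XQ | apply mul_mem) only [mul_bb h, bb_mul h]
    rw [← t2 i hi j hj]
    simp only [bX (i + _)]
  · have : ∀ j, U * X j * U⁻¹ = X (j + 1) := fun j => by rw [add_comm, ← Xa, pow_one]
    rw [← conj_mul, ← conj_mul, this, this, this]; simp only [add_right_comm]

theorem Hp.neg {U : H} {Y : ℕ → H} (h : ES Q z) (hz : ∀ g, g * z = z * g) (hY : Hp Q z U Y) : Hp Q z U fun i => Y i * z := by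
  have e : ∀ a b : H, a * z * (b * z) = a * b := fun a b => by rw [mul_assoc, ← mul_assoc z, ← hz, mul_assoc, h.sq, mul_one]
  refine ⟨fun i => mul_mem (hY.mem i) h.mem, fun i => by rw [e, hY.sq], fun i hi j hj => by rw [e, e, hY.anti i hi j hj], fun i => ?_⟩
  rw [← conj_mul, hY.cj, hz U, mul_inv_cancel_right]

theorem TH.surj [Finite H] {θ : ℕ → H} (h : TH z θ) (hm : ∀ n, θ n ∈ Q) (hc : Nat.card Q = 128) {x : H} (hx : x ∈ Q) :
    ∃ n < 128, θ n = x := by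
  have : Function.Bijective fun n : Fin 128 => (⟨θ n, hm n⟩ : Q) :=
    (Nat.bijective_iff_injective_and_card _).2 ⟨fun a b e => Fin.ext (h.inj a.2 b.2 (congrArg Subtype.val e)), by simp [hc]⟩
  obtain ⟨n, e⟩ := this.2 ⟨x, hx⟩
  exact ⟨n, n.2, congrArg Subtype.val e⟩

def TU : ℕ := nat_lit 0x608386142c70f2648b96346cf1f448d32756a97ae64cdb3776e9fbe870a3c6952e74fa74abd6b56ef5fc58f367d7ab7eee5cfb77f7ebffefbf3cf8ebd38f0dbb34e8cb930e0bb72cd8ab528d09b324c88b120c07af1cb86ad18b05ab14a84a910a03a70c982a508901a304880a10080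
/-- the action of the element of order 7 -/
def tU (q : ℕ) : ℕ := fld TU q
theorem tU_eq : ∀ q < 128, xt (nat_lit 0x3f404040404) q = tU q := by decide +kernel
theorem top_eq : ∀ n < 128, (∀ i < 6, qm n (fld P0 i) = qm (qm (fld P0 i) n) 1) → n = 126 ∨ n = 127 := by decide +kernel

theorem exists_th [Finite H] [Q.Normal] (h : ES Q z) (hz : ∀ g, g * z = z * g) (hc : Nat.card Q = 128) {U : H} (u7 : U ^ 7 = 1)
    (hU : ¬ ∀ x ∈ Q, U * x = x * U) : ∃ θ, TH z θ ∧ (∀ n, θ n ∈ Q) ∧ ∀ q < 128, U * θ q * U⁻¹ = θ (tU q) := by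
  have sp : ∀ {Y}, Hp Q z U Y → TH z (th z Y) := fun hY =>
    th_spec h.ne h.sq hz (fun i _ => hY.sq i) fun i hi => hY.anti i (by omega)
  have key : ∀ {Y}, Hp Q z U Y → th z Y 126 = Y 6 → ∃ θ, TH z θ ∧ (∀ n, θ n ∈ Q) ∧ ∀ q < 128, U * θ q * U⁻¹ = θ (tU q) :=
    fun {Y} hY e => ⟨_, sp hY, th_mem h.mem hY.mem, fun q hq => by
      rw [← tU_eq q hq]
      refine (sp hY).ext (fun i hi => ?_) hq
      rw [th_gen h.sq i hi, hY.cj]
      interval_cases i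
      exacts [(th_gen h.sq 1 (by norm_num)).symm, (th_gen h.sq 2 (by norm_num)).symm, (th_gen h.sq 3 (by norm_num)).symm,
        (th_gen h.sq 4 (by norm_num)).symm, (th_gen h.sq 5 (by norm_num)).symm, e.symm]⟩
  obtain ⟨Y, hY⟩ := exists_hp h (hz U) u7 hU
  have T := sp hY
  obtain ⟨n, hn, e⟩ := T.surj (th_mem h.mem hY.mem) hc (hY.mem 6)
  rcases top_eq n hn (fun i hi => T.inj (qm_lt hn (fld_lt ..)) (qm_lt (qm_lt (fld_lt ..) hn) (by norm_num)) (by
    rw [← T.mz (qm_lt (fld_lt ..) hn), ← T.mul _ hn _ (fld_lt ..), ← T.mul _ (fld_lt ..) _ hn, e, th_gen h.sq i hi,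
      hY.anti 6 (by norm_num) i hi])) with rfl | rfl
  · exact key hY e
  · refine key (hY.neg h hz) ?_
    rw [← e, T.mz (by norm_num), show qm 127 1 = 126 by decide +kernel, th_top h.sq, th_top h.sq]
    have e : ∀ a b : H, a * z * (b * z) = a * b := fun a b => by rw [mul_assoc, ← mul_assoc z, ← hz, mul_assoc, h.sq, mul_one]
    rw [e, ← mul_assoc _ (Y 2), e, ← mul_assoc _ (Y 4), e]

end Cfsg.Lib.Held
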