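import Cfsg.Agent.Lib.Held.Id2

/-! # Normal form of generators of `2^{1+6}.L₃(2)` -/

set_option autoImplicit false
set_option maxRecDepth 100000
set_option synthInstance.maxSize 4000

namespace Cfsg.Lib.Held

open Subgroup Cfsg.Lib.Known2 Cfsg.Lib.Golay

def TH' : ℕ := nat_lit 0x8302143932254bc1871e2d1a75ea7cfde3d6ed9ab43c7ce1d2e58a9489163c69b3274fc9973e6dbb376f74edc3964cd8313668c982648890a342953b362d5be3c3973f3e3d7b5eb96ac4c9d2251c3c60d0e18284a956bd6bb72f5febd3b77f9f7ffe56a94a846890a016284880608080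
def TW : ℕ := nat_lit 0xe18284f7ebcf82854b96d1a75ea183478ee3c39733c7ce1dc78b0e089163c670e5dbaaf5aad456a94a89f3a6cc64cd831bb72f5f40851a248953a6b362d5b6ed9ab4952e4495eb96aca74a8d07af1f3f8302143cd9f2653668c98ebd3b77102458adbb376f2240913fffbefc06080808302143c38316391265cad3a356ba342953e1c79f2b166ddaf1e7dfa89163c6cb9336799367ced9b77eeab52b57ebd3b77bb72f5ff9f7ffe7cfde3d3e78e9c6cdda352c5ca155cbd62d1c3c60d4c9d2250e1828476e9cb83668c9864cd831264889054ad429162848846890a0060808022409133260d1b2854b963a70f1fddbf66dcf9b2e4d7ab4e8c78b0e062c193372e1d3b68d5bb67af1f3f9d3e64d8f1a2c4972a4c8870a0c0a1469d2b166ddaab52b57b976fde5cbd62d4e992a456a94a846890a0e1c79f2f1e7dfaebd3b77f9f7ffe1c3c60d0e1828416284880608080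
def tH (q : ℕ) : ℕ := fld TH' q
def tW (τ q : ℕ) : ℕ := fld TW (Nat.add (Nat.mul (nat_lit 128) τ) q)
theorem tU_lt (q : ℕ) : tU q < 128 := fld_lt ..
theorem tH_lt (q : ℕ) : tH q < 128 := fld_lt ..
theorem tW_lt (τ q : ℕ) : tW τ q < 128 := fld_lt ..
def pk (a b c d e f : ℕ) : ℕ := a + 128 * b + 16384 * c + 2097152 * d + 268435456 * e + 34359738368 * f
theorem fld_pk {a b c d e f : ℕ} (ha : a < 128) (hb : b < 128) (hc : c < 128) (hd : d < 128) (he : e < 128) (hf : f < 128) :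
    ∀ i < 6, fld (pk a b c d e f) i = [a, b, c, d, e, f].getD i 0 := fun i hi => by
  change (pk a b c d e f >>> (7 * i)) &&& (2 ^ 7 - 1) = _
  rw [Nat.and_two_pow_sub_one_eq_mod, Nat.shiftRight_eq_div_pow, pk]
  interval_cases i <;> simp <;> omega

theorem d1 : ∀ a < 128, ∃ q < 128, qm q a = tU (tU q) ∨ qm q a = qm (tU (tU q)) 1 := by decide +kernel
def pH (n : ℕ) : ℕ := pk n (tU^[2] n) (tU^[4] n) (tU^[6] n) (tU^[8] n) (tU^[10] n)
theorem d2 : ∀ n < 128, (∀ i ∈ [1, 2, 3], qm n (tU^[2 * i] n) ≠ qm (tU^[2 * i] n) n) → xt (pH n) 126 = tU^[12] n →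
    ∃ j < 7, ∀ q < 128, tU^[j] (xt (pH n) (tU^[7 - j] q)) = tH q := by decide +kernel
theorem d3 : ∀ a < 128, qm (qm a (tH (tH a))) (tH a) = 0 → ∃ q < 128, qm q a = tH (tH q) := by decide +kernel
def pW (a b c : ℕ) : ℕ := pk a b (tH (tH b)) c (tH b) (tH c)
def D4 (a b c : ℕ) : Prop := qm c c = 1 → xt (pW a b c) 126 = tH (tH c) →
    (∀ i < 6, xt (pW a b c) (xt (pW a b c) (fld P0 i)) / 2 = fld P0 i / 2) →
    (∀ i < 6, tU (xt (pW a b c) (tU (xt (pW a b c) (tU (xt (pW a b c) (fld P0 i)))))) / 2 = fld P0 i / 2) →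
    ∃ τ < 3, ∃ r ∈ [0, 2, 44, 46], ∀ q < 128, qm r (xt (pW a b c) q) = qm (tW τ q) r
instance decD4 (a b c : ℕ) : Decidable (D4 a b c) := by unfold D4; infer_instance
theorem d4 : ∀ a < 128, tH a = a → qm a a = 1 → ∀ b < 128, qm b b = 1 → ∀ c < 128, D4 a b c := by decide +kernel
theorem d5 : ∀ τ < 3, ∀ q < 128, tW τ (tW τ q) = q ∧ tU (tW τ (tU (tW τ (tU q)))) = tW τ q ∧
    tU^[3] (tW τ (tU^[5] (tW τ (tU^[3] q)))) = tH (tW τ q) := by decide +kernel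
theorem d6 : ∀ q < 128, tH (tH (tH q)) = q ∧ qm q 1 / 2 = q / 2 := by decide +kernel

structure Tri {L : Type*} [Group L] (u h w : L) : Prop where
  ne : u ≠ 1
  u7 : u ^ 7 = 1
  hu : h * u * h⁻¹ = u ^ 2
  h3 : h ^ 3 = 1
  wh : w * h * w⁻¹ = h ^ 2
  w2 : w * w = 1
  uw : u * w * (u * w) * (u * w) = 1

theorem Tri.conj {L : Type*} [Group L] {u h w : L} (t : Tri u h w) (g : L) : Tri (g * u * g⁻¹) (g * h * g⁻¹) (g * w * g⁻¹) :=
  ⟨by simpa using t.ne, by rw [conj_pow, t.u7]; simp, by rw [conj_pow, ← t.hu]; group, by rw [conj_pow, t.h3]; simp,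
    by rw [conj_pow, ← t.wh]; group, by rw [conj_mul, t.w2]; simp, by simp only [conj_mul, t.uw]; simp⟩

variable {H : Type*} [Group H] {Q : Subgroup H} {z : H} {θ : ℕ → H}

/-- `g` acts on the coordinates by `s` -/
def Ac (θ : ℕ → H) (g : H) (s : ℕ → ℕ) : Prop := ∀ q < 128, s q < 128 ∧ g * θ q * g⁻¹ = θ (s q)

theorem Ac.mul {g g' : H} {s t : ℕ → ℕ} (a : Ac θ g s) (b : Ac θ g' t) : Ac θ (g * g') fun q => s (t q) := fun q hq =>
  ⟨(a _ (b q hq).1).1, by rw [← (a _ (b q hq).1).2, ← (b q hq).2]; group⟩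
theorem Ac.pow {g : H} {s : ℕ → ℕ} (a : Ac θ g s) (k : ℕ) : Ac θ (g ^ k) s^[k] := by
  induction k with
  | zero => exact fun q hq => ⟨hq, by simp⟩
  | succ k ih => rw [pow_succ]; exact ih.mul a
theorem Ac.inv {g : H} {s : ℕ → ℕ} (a : Ac θ g s) (e : ∀ q < 128, s (s q) = q) : Ac θ g⁻¹ s := fun q hq =>
  ⟨(a q hq).1, by nth_rw 1 [← e q hq, ← (a _ (a q hq).1).2]; group⟩
theorem Ac.congr {g : H} {s t : ℕ → ℕ} (a : Ac θ g s) (e : ∀ q < 128, s q = t q) : Ac θ g t := fun q hq => e q hq ▸ a q hq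
theorem Ac.mz {g : H} {s : ℕ → ℕ} (T : TH z θ) (a : Ac θ g s) : Ac θ (g * z) s := fun q hq =>
  ⟨(a q hq).1, by rw [← (a q hq).2, mul_assoc g, ← T.cen]; group⟩
theorem TH.ac (T : TH z θ) {g : H} {P : ℕ} (e : ∀ i < 6, g * θ (fld P0 i) * g⁻¹ = θ (fld P i)) : Ac θ g (xt P) :=
  fun _ hq => ⟨xt_lt .., T.ext e hq⟩

/-- the normal form -/
structure NF (τ ε : ℕ) (z : H) (θ : ℕ → H) (U h w : H) : Prop where
  th : TH z θ
  aU : Ac θ U tU
  aH : Ac θ h tH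
  aW : Ac θ w (tW τ)
  u7 : U ^ 7 = 1
  hu : h * U * h⁻¹ = U ^ 2
  wh : w * h * w⁻¹ = h⁻¹
  r1 : U * (w * U * w⁻¹) * U = w
  r2 : U ^ 3 * (w * U ^ 5 * w⁻¹) * U ^ 3 = h * w
  w2 : w * w = θ ε

theorem exists_nf [Finite H] [hn : Q.Normal] (h : ES Q z) (hz : ∀ g, g * z = z * g) (hc : Nat.card Q = 128)
    (h2c : ∀ g, (∀ x ∈ Q, g * x = x * g) → g ∈ Q) {L : Type*} [Group L] (π : H →* L) (hs : Function.Surjective π)
    (hπ : ∀ g, π g = 1 ↔ g ∈ Q) {u h' w' : L} (t : Tri u h' w') : ∃ τ < 3, ∃ ε < 2, ∃ θ U h w, NF τ ε z θ U h w := by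
  obtain ⟨U, u7, rfl⟩ : ∃ U, U ^ 7 = 1 ∧ π U = u := by
    obtain ⟨U, rfl⟩ := hs u
    have h1 : U ^ 7 ∈ Q := (hπ _).1 (by rw [map_pow, t.u7])
    refine ⟨U ^ 8, ?_, by rw [map_pow, pow_succ, t.u7, one_mul]⟩
    rw [← pow_mul, show 8 * 7 = 7 * 2 * 4 from rfl, pow_mul, pow_mul, pow_two]
    rcases h.sq_mem _ h1 with e | e <;> rw [e]
    exacts [one_pow _, by rw [show 4 = 2 * 2 from rfl, pow_mul, pow_two z, h.sq, one_pow]]
  obtain ⟨θ, T, hm, aU⟩ := exists_th h hz hc u7 fun e => t.ne ((hπ _).2 (h2c _ e))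
  replace aU : Ac θ U tU := fun q hq => ⟨fld_lt .., aU q hq⟩
  have sj := fun {x} => T.surj hm hc (x := x)
  have sj' : ∀ g i, ∃ n < 128, g * θ i * g⁻¹ = θ n := fun g i =>
    (sj (hn.conj_mem _ (hm i) g)).imp fun _ e => ⟨e.1, e.2.symm⟩
  have same : ∀ {g g' s s'}, Ac θ g s → Ac θ g' s' → (∀ q < 128, s q = s' q) → g = g' ∨ g = g' * z := fun {g g' s s'} a b e => by
    have c : ∀ x ∈ Q, g'⁻¹ * g * x = x * (g'⁻¹ * g) := fun x hx => by
      obtain ⟨q, hq, rfl⟩ := sj hx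
      have := (a q hq).2.trans (e q hq ▸ (b q hq).2.symm)
      calc _ = g'⁻¹ * (g * θ q * g⁻¹) * g := by group
        _ = _ := by rw [this]; group
    exact (h.of_cen _ (h2c _ c) c).imp (fun e => (inv_mul_eq_one.1 e).symm) inv_mul_eq_iff_eq_mul.1
  have inner : ∀ {g s}, π g = 1 → Ac θ g s → ∀ q < 128, s q / 2 = q / 2 := fun {g s} e a q hq => by
    rcases h.conj_eq ((hπ g).1 e) (hm q) with e | e <;> rw [(a q hq).2] at e
    · rw [T.inj (a q hq).1 hq e]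
    · rw [T.mz hq] at e; rw [T.inj (a q hq).1 (qm_lt hq (by norm_num)) e, (d6 q hq).2]
  have a1 : Ac θ 1 fun q => q := fun q hq => ⟨hq, by simp⟩
  have zp : ∀ (g : H) (n : ℕ), (g * z) ^ n = g ^ n * z ^ n := fun g n => Commute.mul_pow (hz g) n
  have zc : ∀ g x : H, g * z * x * (g * z)⁻¹ = g * x * g⁻¹ := fun g x => by rw [mul_assoc g, ← hz]; group
  have z2 : z ^ 2 = 1 := by rw [pow_two, h.sq]
  obtain ⟨k, rfl, hu⟩ : ∃ k, π k = h' ∧ k * U * k⁻¹ = U ^ 2 := by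
    obtain ⟨k, rfl⟩ := hs h'
    obtain ⟨a, ha, e⟩ := sj ((hπ (k * U * k⁻¹ * (U ^ 2)⁻¹)).1 (by simp [t.hu]))
    obtain ⟨q, hq, e'⟩ := d1 a ha
    have e1 : θ q * k * U * (θ q * k)⁻¹ = θ (qm q a) * (θ (tU (tU q)))⁻¹ * U ^ 2 := by
      rw [← T.mul q hq a ha, e, ← ((aU.mul aU) q hq).2, pow_two]; group
    refine ⟨θ q * k, by rw [map_mul, (hπ _).2 (hm q), one_mul], ?_⟩
    rcases e' with e' | e' <;> rw [e'] at e1
    · rw [e1]; simp
    · rw [← T.mz (tU_lt _), hz, mul_inv_cancel_right, ← hz] at e1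
      have := congrArg (· ^ 7) e1
      simp only [conj_pow, u7, zp, ← pow_mul] at this
      rw [mul_comm 2, pow_mul, u7, pow_eq_pow_mod 7 z2] at this
      exact absurd (by simpa using this.symm) h.ne
  obtain ⟨k, w', t, hu, aH⟩ : ∃ k w', Tri (π U) (π k) w' ∧ k * U * k⁻¹ = U ^ 2 ∧ Ac θ k tH := by
    obtain ⟨n, hn, e⟩ := sj' k 2
    have e1 : ∀ i, k * θ (tU^[i] 2) * k⁻¹ = θ (tU^[2 * i] n) := fun i => by
      rw [← (aU.pow i 2 (by norm_num)).2, ← (aU.pow _ n hn).2, ← e, pow_mul, ← hu, conj_pow]; group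
    have lt := fun i => (aU.pow i n hn).1
    have a : Ac θ k (xt (pH n)) := T.ac fun i hi => by
      rw [pH, fld_pk hn (lt _) (lt _) (lt _) (lt _) (lt _) i hi, show fld P0 i = tU^[i] 2 by revert i; decide +kernel, e1]
      interval_cases i <;> rfl
    obtain ⟨j, hj, e2⟩ := d2 n hn (fun i hi e2 => by
      have := congrArg θ e2
      rw [← T.mul _ hn _ (lt _), ← T.mul _ (lt _) _ hn, ← e1, ← e, conj_mul, conj_mul, mul_left_inj, mul_right_inj,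
        T.mul _ (by norm_num) _ (aU.pow i 2 (by norm_num)).1, T.mul _ (aU.pow i 2 (by norm_num)).1 _ (by norm_num)] at this
      have := T.inj (qm_lt (by norm_num) (aU.pow i 2 (by norm_num)).1) (qm_lt (aU.pow i 2 (by norm_num)).1 (by norm_num)) this
      revert this; clear * - hi; revert i; decide +kernel)
      (T.inj (xt_lt ..) (lt _) (by rw [← (a 126 (by norm_num)).2, ← e1 6]; congr 3))
    have e3 : (U ^ j)⁻¹ = U ^ (7 - j) := by rw [inv_eq_iff_mul_eq_one, ← pow_add, Nat.add_sub_cancel' hj.le, u7]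
    have t' := t.conj (π (U ^ j))
    rw [← map_inv, ← map_mul, ← map_mul, ← map_mul, ← map_mul, ← pow_succ, pow_succ', mul_inv_cancel_right] at t'
    refine ⟨U ^ j * k * (U ^ j)⁻¹, _, t', ?_, e3 ▸ (((aU.pow j).mul a).mul (aU.pow _)).congr e2⟩
    calc _ = U ^ j * (k * U * k⁻¹) * (U ^ j)⁻¹ := by group
      _ = _ := by rw [hu]; group
  obtain ⟨k, t, hu, aH, h3⟩ : ∃ k, Tri (π U) (π k) w' ∧ k * U * k⁻¹ = U ^ 2 ∧ Ac θ k tH ∧ k ^ 3 = 1 := by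
    rcases same (aH.pow 3) a1 fun q hq => (d6 q hq).1 with e | e
    · exact ⟨k, t, hu, aH, e⟩
    · exact ⟨k * z, by rwa [map_mul, (hπ _).2 h.mem, mul_one], by rwa [zc], aH.mz T,
        by rw [zp, e, one_mul, ← pow_succ', pow_eq_pow_mod 4 z2, pow_zero]⟩
  have hi : k⁻¹ = k ^ 2 := by rw [inv_eq_iff_mul_eq_one, ← pow_succ', h3]
  obtain ⟨w, rfl, wh⟩ : ∃ w, π w = w' ∧ w * k * w⁻¹ = k ^ 2 := by
    obtain ⟨w, rfl⟩ := hs w'
    obtain ⟨a, ha, e⟩ := sj ((hπ (w * k * w⁻¹ * (k ^ 2)⁻¹)).1 (by simp [t.wh]))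
    obtain ⟨q, hq, e'⟩ := d3 a ha (T.ker (qm_lt (qm_lt ha (tH_lt _)) (tH_lt _)) (by
      rw [← T.mul _ (qm_lt ha (tH_lt _)) _ (tH_lt _), ← T.mul _ ha _ (tH_lt _), ← ((aH.mul aH) a ha).2, ← (aH a ha).2, e]
      calc _ = w * k * w⁻¹ * (w * k * w⁻¹) * (k ^ 3)⁻¹ * (w * k * w⁻¹) * (k ^ 3)⁻¹ := by
            rw [pow_succ k 2, pow_two]; group
        _ = w * k ^ 3 * w⁻¹ := by rw [← conj_pow, h3]; simp [pow_succ]
        _ = 1 := by rw [h3]; simp))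
    refine ⟨θ q * w, by rw [map_mul, (hπ _).2 (hm q), one_mul], ?_⟩
    calc _ = θ (qm q a) * (θ (tH (tH q)))⁻¹ * k ^ 2 := by
          rw [← T.mul q hq a ha, e, ← ((aH.mul aH) q hq).2, pow_two]; group
      _ = _ := by rw [e']; simp
  obtain ⟨τ, hτ, w, wh, aW⟩ : ∃ τ < 3, ∃ w, w * k * w⁻¹ = k ^ 2 ∧ Ac θ w (tW τ) := by
    obtain ⟨a, ha, ea⟩ := sj' w 2
    obtain ⟨b, hb, eb⟩ := sj' w 4
    obtain ⟨c, hc, ec⟩ := sj' w 16
    have e1 : ∀ i < 128, ∀ n < 128, w * θ i * w⁻¹ = θ n → w * θ (tH i) * w⁻¹ = θ (tH (tH n)) := fun i hi n hn e => by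
      rw [← (aH i hi).2, ← ((aH.mul aH) n hn).2, ← e, ← pow_two, ← wh]; group
    have e2 : ∀ i < 128, ∀ n < 128, w * θ i * w⁻¹ = θ n → w * θ (tH (tH i)) * w⁻¹ = θ (tH n) := fun i hi n hn e => by
      rw [e1 _ (tH_lt _) _ (tH_lt _) (e1 i hi n hn e), (d6 _ (tH_lt _)).1]
    have e3 : ∀ i < 128, ∀ n < 128, w * θ i * w⁻¹ = θ n → qm i i = 1 → qm n n = 1 := fun i hi n hn e e' =>
      T.inj (qm_lt hn hn) (by norm_num) (by rw [← T.mul n hn n hn, ← e, conj_mul, T.mul i hi i hi, e', T.zz, T.cz])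
    have aW : Ac θ w (xt (pW a b c)) := T.ac fun i hi => by
      rw [pW, fld_pk ha hb (tH_lt _) hc (tH_lt _) (tH_lt _) i hi]
      interval_cases i
      exacts [ea, eb, e1 4 (by norm_num) b hb eb, ec, e2 4 (by norm_num) b hb eb, e2 16 (by norm_num) c hc ec]
    obtain ⟨τ, hτ, r, hr, e⟩ := d4 a ha (by
        nth_rw 1 [T.inj ha (tH_lt _) (ea.symm.trans (e1 2 (by norm_num) a ha ea))]; exact (d6 a ha).1)
      (e3 2 (by norm_num) a ha ea (by decide +kernel)) b hb (e3 4 (by norm_num) b hb eb (by decide +kernel)) c hc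
      (e3 16 (by norm_num) c hc ec (by decide +kernel))
      (T.inj (xt_lt ..) (fld_lt ..) ((aW 126 (by norm_num)).2.symm.trans (e1 16 (by norm_num) c hc ec)))
      (fun i _ => inner (by rw [map_mul, t.w2]) (aW.mul aW) _ (fld_lt ..))
      (fun i _ => inner (by simp only [map_mul, t.uw]) (((aU.mul aW).mul (aU.mul aW)).mul (aU.mul aW)) _ (fld_lt ..))
    have hr' : r < 128 ∧ tH r = r := by clear * - hr; revert r; decide +kernel
    refine ⟨τ, hτ, θ r * w, ?_, fun q hq => ⟨fld_lt .., ?_⟩⟩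
    · have : Commute k (θ r) := mul_inv_eq_iff_eq_mul.1 ((aH r hr'.1).2.trans (by rw [hr'.2]))
      calc _ = θ r * (w * k * w⁻¹) * (θ r)⁻¹ := by group
        _ = _ := by rw [wh, ← (this.pow_left 2).eq, mul_inv_cancel_right]
    · calc _ = θ r * (w * θ q * w⁻¹) * (θ r)⁻¹ := by group
        _ = _ := by rw [(aW q hq).2, T.mul _ hr'.1 _ (xt_lt ..), e q hq, ← T.mul _ (tW_lt ..) _ hr'.1, mul_inv_cancel_right]
  have iW := fun {w} (a : Ac θ w (tW τ)) => a.inv fun q hq => (d5 τ hτ q hq).1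
  obtain ⟨w, wh, aW, r1⟩ : ∃ w, w * k * w⁻¹ = k ^ 2 ∧ Ac θ w (tW τ) ∧ U * (w * U * w⁻¹) * U = w := by
    rcases same ((aU.mul ((aW.mul aU).mul (iW aW))).mul aU) aW fun q hq => (d5 τ hτ q hq).2.1 with e | e
    exacts [⟨w, wh, aW, e⟩, ⟨w * z, by rwa [zc], aW.mz T, by rwa [zc]⟩]
  obtain ⟨ε, hε, w2⟩ : ∃ ε < 2, w * w = θ ε := by
    rcases same (aW.mul aW) a1 fun q hq => (d5 τ hτ q hq).1 with e | e
    exacts [⟨0, by norm_num, e.trans T.one.symm⟩, ⟨1, by norm_num, by rw [e, one_mul, T.zz]⟩]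
  refine ⟨τ, hτ, ε, hε, θ, U, ?_⟩
  rcases same (((aU.pow 3).mul ((aW.mul (aU.pow 5)).mul (iW aW))).mul (aU.pow 3)) (aH.mul aW) fun q hq => (d5 τ hτ q hq).2.2 with e | e
  · exact ⟨k, w, T, aU, aH, aW, u7, hu, hi ▸ wh, r1, e, w2⟩
  · refine ⟨k * z, w, T, aU, aH.mz T, aW, u7, by rwa [zc], ?_, r1, by rw [e, mul_assoc, hz, mul_assoc], w2⟩
    rw [← conj_mul, wh, T.cz, mul_inv_rev, hi, h.inv_z, hz]

end Cfsg.Lib.Held
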