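import Cfsg.Agent.Lib.Held.Id5
import Cfsg.Agent.Lib.JT.Id3
import Cfsg.Agent.Lib.Invol.Strong
import Cfsg.Agent.Lib.Linear.SmallIso
import Cfsg.Agent.S3289

/-! # Identification of the involution centraliser of a group of Held type -/

set_option autoImplicit false
set_option maxRecDepth 100000

namespace Cfsg.Lib.Held

open Subgroup Cfsg.Lib.Known2 Cfsg.Lib.Transfer Cfsg.Lib.JT Matrix

variable {G : Type*} [Group G]

theorem all_conj [Finite G] [IsSimpleGroup G] {z : G} (hz : orderOf z = 2) (P : Sylow 2 G) (hP : (P : Subgroup G) ≤ centralizer {z})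
    (E : Subgroup G) (hE : ∀ x, x ∈ E ↔ x = 1 ∨ IsConj z x ∧ x * z = z * x) {a : G} (ha : orderOf a = 2) : IsConj z a := by
  have : Fact (Nat.Prime 2) := ⟨Nat.prime_two⟩
  have z1 : z ≠ 1 := by rintro rfl; simp at hz
  have zE : z ∈ E := (hE z).2 (.inr ⟨IsConj.refl z, rfl⟩)
  have e2 : ∀ x ∈ E, x ^ 2 = 1 := fun x hx => by
    rcases (hE x).1 hx with rfl | ⟨h, -⟩
    · simp
    · obtain ⟨g, rfl⟩ := isConj_iff.1 h
      rw [conj_pow, ← hz, pow_orderOf_eq_one]; simp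
  have cm : ∀ x ∈ E, ∀ y ∈ E, x * y = y * x := fun x hx y hy => by
    have i : ∀ x ∈ E, x⁻¹ = x := fun x hx => inv_eq_of_mul_eq_one_right ((sq x).symm.trans (e2 x hx))
    rw [← i _ (mul_mem hx hy), _root_.mul_inv_rev, i x hx, i y hy]
  have nm : ∀ g : G, g⁻¹ * z * g⁻¹⁻¹ ∈ E → g ∈ normalizer (E : Set G) := fun g hg => mem_normalizer_fintype fun y hy => (hE _).2 (by
    rcases (hE y).1 hy with rfl | ⟨h, -⟩
    · simp
    · refine .inr ⟨h.trans (isConj_iff.2 ⟨g, rfl⟩), ?_⟩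
      calc _ = g * (y * (g⁻¹ * z * g⁻¹⁻¹)) * g⁻¹ := by group
        _ = _ := by rw [cm y hy _ hg]; group)
  have nc : centralizer {z} ≤ normalizer (E : Set G) := fun g hg => nm g (by
    rw [mem_centralizer_singleton_iff.1 (inv_mem hg), mul_inv_cancel_right]; exact zE)
  have EP : E ≤ P := (sylowIn_of_le P hP).le_of_le_normalizer (fun x => ⟨1, Subtype.ext (e2 x x.2)⟩)
    (fun x hx => mem_centralizer_singleton_iff.2 (cm x hx z zE)) (hP.trans nc)
  have E1 : E ≠ ⊥ := fun e => z1 (mem_bot.1 (e ▸ zE))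
  by_cases hM : normalizer (E : Set G) = ⊤
  · obtain rfl := (normalizer_eq_top_iff.1 hM).eq_bot_or_eq_top.resolve_left E1
    exact (((hE a).1 trivial).resolve_left fun e => by simp [e] at ha).1
  have hΩ : Cfsg.omegaOne 2 E = E := le_antisymm ((closure_le _).2 fun x hx => hx.1) fun x hx => subset_closure ⟨hx, e2 x hx⟩
  have hC : ∀ x ∈ E, x ≠ 1 → centralizer {x} ≤ normalizer (E : Set G) := fun x hx x1 k hk => by
    obtain ⟨g, rfl⟩ := isConj_iff.1 (((hE x).1 hx).resolve_left x1).1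
    have h1 := nm g⁻¹ (by simpa using hx)
    have h2 := nc (show g⁻¹ * k * g ∈ centralizer {z} from mem_centralizer_singleton_iff.2 (by
      calc _ = g⁻¹ * (k * (g * z * g⁻¹)) * g := by group
        _ = _ := by rw [mem_centralizer_singleton_iff.1 hk]; group))
    rw [show k = g⁻¹⁻¹ * (g⁻¹ * k * g) * g⁻¹ by group]
    exact mul_mem (mul_mem (inv_mem h1) h2) h1
  have sc : Cfsg.IsStronglyClosed E (P : Subgroup G) := ⟨EP, fun x hx g hg => (hE _).2 (((hE x).1 hx).imp (fun e => by simp [e])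
    fun h => ⟨h.1.trans (isConj_iff.2 ⟨g, rfl⟩), mem_centralizer_singleton_iff.1 (hP hg)⟩)⟩
  have h := (Agent.S3289.result P E E1 sc _ hM hC (by rw [hΩ])).1
  have hX : normalClosure (E : Set G) = ⊤ := (IsSimpleGroup.eq_bot_or_eq_top_of_normal _ inferInstance).resolve_left fun e =>
    E1 (eq_bot_iff.2 (le_normalClosure.trans e.le))
  rw [hX] at h
  exact (⊤ : Subgroup G).subtype.map_isConj (Invol.se_isConj h (a := ⟨z, trivial⟩) (b := ⟨a, trivial⟩)
    (by rwa [← orderOf_coe]) (by rwa [← orderOf_coe]))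

theorem Cert.conj [Finite G] [IsSimpleGroup G] {τ ε W m r₀ : ℕ} {R : List (ℕ × List ℕ × List ℕ)} {E : List ℕ} (c : Cert τ ε W m R r₀ E)
    {z : G} (hz : orderOf z = 2) {F₀ : ℕ → centralizer ({z} : Set G)} (f : Crd τ ε ⟨z, mem_centralizer_singleton_iff.2 rfl⟩ F₀)
    (P : Sylow 2 G) (hP : (P : Subgroup G) ≤ centralizer {z}) (hn : ∃ g : G, g * z * g⁻¹ ∈ P ∧ g * z * g⁻¹ ≠ z) {a : G}
    (ha : orderOf a = 2) : IsConj z a := by
  obtain ⟨F, mul, inj, sj, cm, f0, f1⟩ : ∃ F : ℕ → G, (∀ a < 21504, ∀ b < 21504, F (mw τ ε a b) = F a * F b) ∧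
      (∀ a < 21504, ∀ b < 21504, F a = F b → a = b) ∧ (∀ g : G, g * z = z * g → ∃ a < 21504, F a = g) ∧ (∀ a, F a * z = z * F a) ∧
      F 0 = 1 ∧ F 1 = z := ⟨fun n => F₀ n, fun a ha b hb => congrArg Subtype.val (f.mul a ha b hb).2,
    fun a ha b hb e => f.inj a ha b hb (Subtype.ext e), fun g hg => (f.surj ⟨g, mem_centralizer_singleton_iff.2 hg⟩).imp
      fun _ h => ⟨h.1, congrArg Subtype.val h.2⟩, fun a => mem_centralizer_singleton_iff.1 (F₀ a).2, congrArg Subtype.val f.one,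
    congrArg Subtype.val f.zz⟩
  have cz : ∀ a, F a * z * (F a)⁻¹ = z := fun a => by rw [cm, mul_inv_cancel_right]
  have cz' : ∀ a, (F a)⁻¹ * z * F a = z := fun a => by rw [mul_assoc, ← cm, inv_mul_cancel_left]
  have z2 : z * z = 1 := by rw [← sq, ← hz, pow_orderOf_eq_one]
  have z1 : z ≠ 1 := by rintro rfl; simp at hz
  have wit : ∀ k < m, wf W k 32 < 21504 ∧ F (wf W k 0) = F (wf W k 16) * F (wf W k 32) * (F (wf W k 16))⁻¹ := fun k hk => by
    obtain ⟨l0, l1, e, ⟨r, hr, e'⟩, -⟩ := c.wit k hk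
    have l2 := e' ▸ (c.la r hr).1
    exact ⟨l2, by rw [← mul _ l1 _ l2, ← e, mul _ l0 _ l1, mul_inv_cancel_right]⟩
  have cls : ∀ g : G, g * z * g⁻¹ * z = z * (g * z * g⁻¹) → g * z * g⁻¹ ≠ z → ∃ k < m, F (wf W k 0) = g * z * g⁻¹ := fun g h1 h2 => by
    obtain ⟨n, hn, e⟩ := sj _ h1
    refine (c.inv n hn (inj _ (f.mul n hn n hn).1 _ (by norm_num) (by rw [mul n hn n hn, e, conj_mul, z2, f0]; simp))).elim
      (fun h => ?_) fun ⟨k, hk, e'⟩ => ⟨k, hk, e' ▸ e⟩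
    interval_cases n
    exacts [absurd (conj_eq_one_iff.1 (e.symm.trans f0)) z1, absurd (e.symm.trans f1) h2]
  have cnt : ∀ g : G, ∀ e ∈ R, ∀ e' ∈ R, g * z * g⁻¹ = F e.1 → g * F e'.1 * g⁻¹ = z → e'.2.1.length ≤ e.2.2.length :=
    fun g e he e' he' g1 g2 => by
    obtain ⟨l', nd, hk⟩ := c.la e' he'
    have : ∀ k, ∃ l < 21504, k ∈ e'.2.1 → F l = g * F k * g⁻¹ := fun k => by
      by_cases h : k ∈ e'.2.1
      · refine (sj (g * F k * g⁻¹) ?_).imp fun _ h => ⟨h.1, fun _ => h.2⟩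
        rw [← g2, conj_mul, conj_mul, ← mul _ (hk k h).1 _ l', (hk k h).2.2, mul _ l' _ (hk k h).1]
      · exact ⟨0, by norm_num, fun h' => absurd h' h⟩
    choose p hp using this
    have := (List.subperm_of_subset (nd.map_on (f := p) fun x hx y hy e => inj _ (hk x hx).1 _ (hk y hy).1 (by
      have := (hp x).2 hx
      rw [e, (hp y).2 hy] at this
      exact (mul_left_cancel (mul_right_cancel this)).symm)) (l₂ := e.2.2) fun l hl => by
        obtain ⟨k, h, rfl⟩ := List.mem_map.1 hl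
        exact c.sqr _ (hp k).1 e he (inj _ (f.mul _ (hp k).1 _ (hp k).1).1 _ (c.la e he).1 (by
          rw [mul _ (hp k).1 _ (hp k).1, (hp k).2 h, conj_mul, ← mul _ (hk k h).1 _ (hk k h).1, (hk k h).2.1, f1, g1]))).length_le
    rwa [List.length_map] at this
  have key : ∀ g : G, g * z * g⁻¹ * z = z * (g * z * g⁻¹) → g * z * g⁻¹ ≠ z →
      ∃ k < m, F (wf W k 0) = g * z * g⁻¹ ∧ wf W k 32 = r₀ := fun g h1 h2 => by
    obtain ⟨k, hk, e⟩ := cls g h1 h2
    obtain ⟨j, hj, e'⟩ := cls g⁻¹ (by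
      calc _ = g⁻¹ * (z * (g * z * g⁻¹)) * g := by group
        _ = _ := by rw [← h1]; group) fun h => h2 (by nth_rw 1 [← h]; group)
    obtain ⟨r, hr, er⟩ := (c.wit k hk).2.2.2.1
    obtain ⟨s, hs, es⟩ := (c.wit j hj).2.2.2.1
    rw [(wit j hj).2, ← es] at e'
    refine ⟨k, hk, e, er ▸ c.num r hr s hs (cnt ((F (wf W j 16))⁻¹ * g⁻¹ * F (wf W k 16)) s hs r hr ?_ ?_)
      (cnt ((F (wf W k 16))⁻¹ * g * F (wf W j 16)) r hr s hs ?_ ?_)⟩ <;> rw [(wit k hk).2, ← er] at e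
    · calc _ = (F (wf W j 16))⁻¹ * (g⁻¹ * (F (wf W k 16) * z * (F (wf W k 16))⁻¹) * g⁻¹⁻¹) * F (wf W j 16) := by group
        _ = _ := by rw [cz, ← e']; group
    · calc _ = (F (wf W j 16))⁻¹ * (g⁻¹ * (F (wf W k 16) * F r.1 * (F (wf W k 16))⁻¹) * g) * F (wf W j 16) := by group
        _ = _ := by rw [e]; refine Eq.trans ?_ (cz' (wf W j 16)); group
    · calc _ = (F (wf W k 16))⁻¹ * (g * (F (wf W j 16) * z * (F (wf W j 16))⁻¹) * g⁻¹) * F (wf W k 16) := by group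
        _ = _ := by rw [cz, ← e]; group
    · calc _ = (F (wf W k 16))⁻¹ * (g * (F (wf W j 16) * F s.1 * (F (wf W j 16))⁻¹) * g⁻¹) * F (wf W k 16) := by group
        _ = _ := by rw [e']; refine Eq.trans ?_ (cz' (wf W k 16)); group
  obtain ⟨g, hg, hne⟩ := hn
  obtain ⟨k, hk, e, er⟩ := key g (mem_centralizer_singleton_iff.1 (hP hg)) hne
  have cr : IsConj z (F r₀) := (isConj_iff.2 ⟨g, e.symm⟩).trans (isConj_iff.2 ⟨_, by rw [(wit k hk).2, er]⟩).symm
  obtain ⟨E0, E1, hE⟩ := c.cl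
  have ch : ∀ x : G, (∃ n ∈ E, F n = x) ↔ x = 1 ∨ IsConj z x ∧ x * z = z * x := fun x => by
    refine ⟨?_, ?_⟩
    · rintro ⟨n, hn, rfl⟩
      refine (hE n hn).2.1.imp (fun e => by rw [e, f0]) fun h => ⟨?_, cm n⟩
      obtain rfl | ⟨k, hk, rfl, er⟩ := h
      exacts [by rw [f1], cr.trans (isConj_iff.2 ⟨_, by rw [(wit k hk).2, er]⟩)]
    · rintro (rfl | ⟨h, h1⟩)
      · exact ⟨0, E0, f0⟩
      obtain ⟨g, rfl⟩ := isConj_iff.1 h
      by_cases h2 : g * z * g⁻¹ = z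
      · exact ⟨1, E1, f1.trans h2.symm⟩
      obtain ⟨k, hk, e, er⟩ := key g h1 h2
      exact ⟨_, (c.wit k hk).2.2.2.2 er, e⟩
  refine all_conj hz P hP ⟨⟨⟨{x | ∃ n ∈ E, F n = x}, ?_⟩, 0, E0, f0⟩, fun {x} hx => ?_⟩ ch ha
  · rintro _ _ ⟨a, ha, rfl⟩ ⟨b, hb, rfl⟩
    exact ⟨_, (hE a ha).2.2 b hb, mul a (hE a ha).1 b (hE b hb).1⟩
  · rcases (ch x).1 hx with rfl | ⟨h, -⟩
    · exact ⟨0, E0, f0.trans inv_one.symm⟩
    obtain ⟨g, rfl⟩ := isConj_iff.1 h
    rwa [conj_inv, inv_eq_of_mul_eq_one_right z2]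

theorem tri_SL3 : ∃ u h w : SpecialLinearGroup (Fin 3) (ZMod 2), Tri u h w :=
  ⟨⟨!![0, 0, 1; 0, 1, 1; 1, 1, 0], by decide +kernel⟩, ⟨!![0, 0, 1; 1, 1, 1; 1, 0, 1], by decide +kernel⟩,
    ⟨!![0, 0, 1; 1, 1, 1; 1, 0, 0], by decide +kernel⟩, fun e => absurd (congrArg Subtype.val e) (by decide +kernel),
    Subtype.ext (by decide +kernel), mul_inv_eq_iff_eq_mul.2 (Subtype.ext (by decide +kernel)), Subtype.ext (by decide +kernel),
    mul_inv_eq_iff_eq_mul.2 (Subtype.ext (by decide +kernel)), Subtype.ext (by decide +kernel), Subtype.ext (by decide +kernel)⟩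

theorem ident_simple [Finite G] [IsSimpleGroup G] (t : G) (ht : orderOf t = 2) (Q : Subgroup (centralizer ({t} : Set G))) [Q.Normal]
    (hQ : Cfsg.IsExtraspecial 2 Q) (hcard : Nat.card Q = 2 ^ 7) (h2c : centralizer (Q : Set (centralizer ({t} : Set G))) ≤ Q)
    (e : centralizer ({t} : Set G) ⧸ Q ≃* SpecialLinearGroup (Fin 3) (ZMod 2))
    (htwo : ∃ x y : G, orderOf x = 2 ∧ orderOf y = 2 ∧ ¬ IsConj x y) : ∃ φ : HH →* G, HT φ ∧ φ z0 = t := by
  have : Fact (Nat.Prime 2) := ⟨Nat.prime_two⟩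
  obtain ⟨z1, -, h⟩ := exists_ES hQ
  let z' : centralizer ({t} : Set G) := ⟨t, mem_centralizer_singleton_iff.2 rfl⟩
  have hc' : ∀ g, g * z' = z' * g := fun g => Subtype.ext (mem_centralizer_singleton_iff.1 g.2)
  have zQ : z' ∈ Q := h2c fun g _ => hc' g
  obtain rfl : z' = z1 := (h.of_cen z' zQ fun y _ => (hc' y).symm).resolve_left fun e => by
    rw [show t = 1 from congrArg Subtype.val e] at ht; simp at ht
  obtain ⟨u, h', w, tr⟩ := tri_SL3
  have hC : Nat.card (centralizer ({t} : Set G)) = 21504 := by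
    rw [card_eq_card_quotient_mul_card_subgroup Q, Nat.card_congr e.toEquiv, hcard, show Nat.card (SpecialLinearGroup (Fin 3) (ZMod 2)) = 168 by
      convert Linear.card_SL_three_two]; rfl
  obtain ⟨τ, hτ, ε, hε, θ, U, h0, w0, N⟩ := exists_nf h hc' hcard (fun g hg => h2c fun x hx => (hg x hx).symm)
    (e.toMonoidHom.comp (QuotientGroup.mk' Q)) (e.surjective.comp (QuotientGroup.mk'_surjective Q))
    (fun g => (e.map_eq_one_iff).trans (QuotientGroup.eq_one_iff g)) tr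
  obtain ⟨F, f⟩ := N.crd hτ hε hC
  by_cases h20 : τ = 2 ∧ ε = 0
  · obtain ⟨rfl, rfl⟩ := h20
    obtain ⟨F', f'⟩ := crd_HH
    obtain ⟨φ, h1, h2⟩ := f'.iso f
    have h3 : ((Subgroup.subtype _).comp φ) z0 = t := congrArg Subtype.val h2
    exact ⟨(Subgroup.subtype _).comp φ, ⟨Subtype.val_injective.comp h1.1, by
      rw [h3, MonoidHom.range_comp, MonoidHom.range_eq_top.2 h1.2, ← MonoidHom.range_eq_map, range_subtype]⟩, h3⟩
  exfalso
  have e := Q.equivMapOfInjective _ (centralizer ({t} : Set G)).subtype_injective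
  obtain ⟨⟨P, hP⟩, -⟩ := Cfsg.Agent.S0481.result t ht (Q.map (Subgroup.subtype _)) (map_subtype_le _)
    (by rintro g hg _ ⟨q, hq, rfl⟩; exact ⟨_, ‹Q.Normal›.conj_mem q hq ⟨g, hg⟩, rfl⟩) (hQ.1.1.map _)
    (by rw [← hQ.2]; exact (Nat.card_congr (centerCongr e).toEquiv).symm)
    (fun x => by
      obtain ⟨x, rfl⟩ := e.surjective x
      rw [← map_pow]
      refine (centerCongr e ⟨x ^ 2, mem_center_iff.2 fun y => Subtype.ext ?_⟩).2
      change y.1 * x.1 ^ 2 = x.1 ^ 2 * y.1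
      rcases h.sq_mem x x.2 with t | t <;> rw [sq, t]
      exacts [by simp, h.cen y y.2])
    fun g hg => ⟨⟨g, mem_centralizer_singleton_iff.2 (hg _ ⟨z', zQ, rfl⟩).symm⟩, h2c fun x hx => Subtype.ext (hg x ⟨x, hx, rfl⟩), rfl⟩
  have hzP : t ∈ P := ((sylowIn_of_le P hP).le_of_le_normalizer (Q := zpowers t) (IsPGroup.of_card (n := 1) (by simp [ht]))
    (zpowers_le.2 (mem_centralizer_singleton_iff.2 rfl)) fun g hg => mem_normalizer_of_cj_le (cj_le_iff.2 (by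
      rintro _ ⟨n, rfl⟩
      exact ⟨n, by rw [← conj_zpow, mem_centralizer_singleton_iff.1 (hP hg), mul_inv_cancel_right]⟩))) (mem_zpowers _)
  have hn := not_wc ht (by
    by_contra hc
    push Not at hc
    rcases (show (zpowers t).Normal from ⟨by
      rintro _ ⟨n, rfl⟩ g
      exact ⟨n, by rw [← conj_zpow, hc, mul_inv_cancel_right]⟩⟩).eq_bot_or_eq_top with e | e
    · rw [zpowers_eq_bot.1 e] at ht; simp at ht
    · have := card_le_card_group (centralizer ({t} : Set G))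
      rw [hC, ← card_top, ← e, Nat.card_zpowers, ht] at this
      omega) P hzP
  obtain ⟨x, y, hx, hy, hxy⟩ := htwo
  have : ∀ a : G, orderOf a = 2 → IsConj t a := fun a ha => by
    interval_cases τ <;> interval_cases ε
    exacts [cert00.conj ht f P hP hn ha, cert01.conj ht f P hP hn ha, cert10.conj ht f P hP hn ha, cert11.conj ht f P hP hn ha,
      absurd ⟨rfl, rfl⟩ h20, cert21.conj ht f P hP hn ha]
  exact hxy ((this x hx).symm.trans (this y hy))

end Cfsg.Lib.Held
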