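import Cfsg.Agent.Lib.Held.L1

/-! # Held type: the four presentations and uniqueness -/

set_option autoImplicit false
set_option maxRecDepth 100000

namespace Cfsg.Lib.Held

open Subgroup Cfsg.Lib.Comp

universe u v

/-- `G` is of Held type and generated by elements satisfying the relations `R` -/
def Pr (iv : ℕ → ℕ) (R : List (List ℕ × ℕ)) (L : List ℕ) (G : Type*) [Group G] : Prop :=
  ∃ (ψ : HH →* G) (p q : G), HT ψ ∧ Z ψ h0 ∧ IvOK (gam ψ p q) iv ∧ Rels (gam ψ p q) R ∧ Comp.cl (gam ψ p q) L = ⊤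

variable {G : Type u} {G' : Type v} [Group G] [Group G'] {φ : HH →* G} {iv : ℕ → ℕ} {R : List (List ℕ × ℕ)} {L : List ℕ} {n : ℕ}

theorem Pr.card (h : Pr iv R L G) (ho : Ord.{u} iv R L n) : Nat.card G ≤ n := by
  obtain ⟨ψ, p, q, -, -, a, b, c⟩ := h
  have := (ho G _ a b).2
  rwa [c, card_top] at this

theorem HT.normal_bot [Finite G] (hφ : HT φ) (hz : Z φ h0) (N : Subgroup G) [hN : N.Normal] (h : ∀ k, φ k ∈ N → k = 1) : N = ⊥ := by
  have fp : MonoidHom.FixedPointFree (MulAut.conjNormal (H := N) (φ z0)) := fun g e => by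
    obtain ⟨k, hk⟩ := hφ.mem (g := g) (mul_inv_eq_iff_eq_mul.1 (congrArg Subtype.val e)).symm
    exact Subtype.ext (by rw [← hk, h k (hk ▸ g.2), map_one]; rfl)
  have h1 := fp.coe_eq_inv_of_involutive fun g => by
    rw [← MulAut.mul_apply, ← map_mul, map_sq (by decide +kernel), map_one, MulAut.one_apply]
  have key : ∀ {k}, Z φ k → ∀ x ∈ N, φ k * x * (φ k)⁻¹ = x⁻¹ := fun ⟨g, e⟩ x hx => by
    have : φ z0 * (g * x * g⁻¹) * (φ z0)⁻¹ = (g * x * g⁻¹)⁻¹ := congrArg Subtype.val (congrFun h1 ⟨_, hN.conj_mem x hx g⟩)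
    rw [← e] at this
    rw [conj_mul, conj_inv, conj_mul, conj_inv] at this
    simpa using this
  refine eq_bot_iff.2 fun x hx => ?_
  have h2 := key (hz.mulz (j := 2) (by decide)) x hx
  rw [map_mul, mul_inv_rev, ← mul_assoc, mul_assoc _ (φ z0), mul_assoc _ (φ z0 * x), key .z x hx] at h2
  have h3 := h2.symm.trans (key hz _ (inv_mem hx))
  exact congrArg Subtype.val (fp ⟨x, hx⟩ (Subtype.ext ((key .z x hx).trans (h3.trans (inv_inv x)))))

theorem Pr.iso [Finite G] (h : Pr iv R L G) (h' : Pr iv R L G') (ho : Ord.{max u v} iv R L n) (hc : Nat.card G = n)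
    (hL : ∀ i ∈ [1, 2, 3, 4, 5, 6, 7, 8, 9, 10, 11, 12], i ∈ L) : Nonempty (G' ≃* G) := by
  obtain ⟨ψ, p, q, a1, a2, a3, a4, h1⟩ := h
  obtain ⟨ψ', p', q', b1, -, b3, b4, h2⟩ := h'
  obtain ⟨c1, c2⟩ := ho _ _ (a3.prod b3) (a4.prod b4)
  obtain ⟨f, hf⟩ := hom_of_card (γ := gam ψ p q) (δ := gam ψ' p' q') (L := L) (by rw [h1, card_top, hc]; exact c2)
  let g : G →* G' := f.comp ((MulEquiv.subgroupCongr h1.symm).toMonoidHom.comp topEquiv.symm.toMonoidHom)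
  have hg : ∀ x ∈ L, g (gam ψ p q x) = gam ψ' p' q' x := fun x hx => by
    rw [← ev_single (gam ψ' p' q') x, ← ev_single (gam ψ p q) x]; exact hf [x] (by simpa using hx)
  have hs : Function.Surjective g := by
    rw [← MonoidHom.range_eq_top, eq_top_iff, ← h2]
    exact cl_le.2 fun x hx => ⟨_, hg x hx⟩
  have he : ∀ k, g (ψ k) = ψ' k := eq_top_of_gens (K := (g.comp ψ).eqLocus ψ') fun k hk => by
    obtain ⟨i, hi, rfl⟩ := List.mem_map.1 (show k ∈ [1, 2, 3, 4, 5, 6, 7, 8, 9, 10, 11, 12].map δ0 from hk)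
    have := hg i (hL i hi)
    rwa [gam_le (by clear * - hi; revert i; decide), gam_le (by clear * - hi; revert i; decide)] at this
  exact ⟨(MulEquiv.ofBijective g ⟨(MonoidHom.ker_eq_bot_iff g).1 (a1.normal_bot a2 _ fun k hk =>
    b1.inj ((he k).symm.trans (hk.trans ψ'.map_one.symm))), hs⟩).symm⟩

variable [Finite G]

theorem HT.prS (hφ : HT φ) {y : G} (h : YD φ y aS bS) : Pr HdM.iv HdM.R HdM.L G ∨ Pr HdH.iv HdH.R HdH.L G := by
  have hz : Z φ h0 := ⟨y, h.yh⟩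
  have top : ∀ {M : Subgroup G}, φ.range ≤ M → y ∈ M → M = ⊤ := fun hM hy => by
    obtain ⟨m, hm, e⟩ := h.fuS' hM hy
    obtain ⟨x, α, β, hx, ht⟩ := hφ.tau.exTy (Z.tau' ⟨m, e⟩ (by decide +kernel))
    refine Gn.top ⟨hφ, hM, ⟨y, hy, _, _, h.toY0, .inr ⟨rfl, rfl⟩⟩, x, ?_, _, _, hx.toY0, ht⟩
    simpa using mul_mem (hM (hφ.mem' (e.symm.comp (hx.yh.tau (by decide +kernel) (by decide +kernel))))) hm
  refine (h.ny5 hφ).imp (fun e => ⟨φ, y, 1, hφ, hz, gam_iv _ _ (by decide +kernel) (.inl rfl),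
    h.rels hφ (R' := [([12, 13], 4)]) (.cons ?_ (.nil _)) (by decide +kernel), top (range_le_cl _ _ (by decide)) (mem_cl (x := 13) (by decide))⟩)
    fun e => ⟨φ, y, 1, hφ, hz, gam_iv _ _ (by decide +kernel) (.inl rfl),
    h.rels hφ (R' := [([12, 13, 12, 13, 12, 13, 12, 13, 12, 13, 10, 2], 0)]) (.cons ?_ (.nil _)) (by decide +kernel),
      top (range_le_cl _ _ (by decide)) (mem_cl (x := 13) (by decide))⟩
  · simpa [ev, gam, δ0] using e
  · rw [show ev (gam φ y 1) [12, 13, 12, 13, 12, 13, 12, 13, 12, 13, 10, 2] = (φ n0 * y) ^ 5 * φ (z0 * b0) by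
      simp [ev, gam, δ0, pow_succ, mul_assoc], e, ← map_mul, show b0 * z0 * (z0 * b0) = 1 by decide +kernel, map_one, one_pow]

theorem HT.prLL (hφ : HT φ) {x y : G} (hy : YD φ y a0 b0) (hx : YD (φ.comp τ) x a0 b0) : Pr HdLL.iv HdLL.R HdLL.L G := by
  obtain ⟨x, hx, e⟩ := hy.exC hφ hx
  refine ⟨φ, x, y, hφ, ⟨y, hy.yh⟩, gam_iv _ _ (by decide +kernel) (.inr (by decide +kernel)), fun r hr => ?_,
    Gn.top ⟨hφ, range_le_cl _ _ (by decide), ⟨y, mem_cl (x := 15) (by decide), _, _, hy.toY0, .inl ⟨rfl, rfl⟩⟩,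
      x, mem_cl (x := 13) (by decide), _, _, hx.toY0, .inl ⟨rfl, rfl⟩⟩⟩
  have : ∀ r ∈ HdLL.R, okH r ∨ okY 15 [1, 2, 3, 5, 6, 7, 8, 9, 10, 11] (im a0 b0) r ∨
      okY 13 [2, 3, 4, 5, 6, 7, 8, 9, 10, 12] (fun j => τ (im a0 b0 (sg j))) r ∨
      r ∈ [([15], 2), ([4, 15], 1), ([15, 16], 0), ([12, 15], 2), ([13], 2), ([1, 13], 1), ([13, 14], 0), ([11, 13], 2),
        ([15, 13, 16, 14], 0)] := by decide +kernel
  rcases this r hr with a | a | a | a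
  · exact a.rel
  · exact a.rel (g := y) rfl rfl hy.im
  · exact a.rel (g := x) rfl rfl hx.imx
  refine (show Rels (gam φ x y) _ from ?_) r a
  have ta : τ d0 = a0 ∧ τ n0 = m0 := by decide +kernel
  have h1 := hx.yd
  have h2 := hx.ny3 hφ.tau
  rw [MonoidHom.comp_apply, ta.1] at h1
  rw [MonoidHom.comp_apply, ta.2] at h2
  simp only [Rels, List.forall_mem_cons, ev_cons, ev_nil, mul_one]
  exact ⟨(pow_three' y).trans (hy.y3 hφ), (sq _).trans ((mul_assoc _ _ _).symm.trans hy.yd), by simp [gam], hy.ny3 hφ,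
    (pow_three' x).trans (hx.y3 hφ.tau), (sq _).trans ((mul_assoc _ _ _).symm.trans h1), by simp [gam], h2,
    by simp [gam, ← mul_assoc, e], by simp⟩

theorem HT.main' (hφ : HT φ) (hz : Z φ h0) : Pr HdL.iv HdL.R HdL.L G ∨ Pr HdLL.iv HdLL.R HdLL.L G ∨
    Pr HdM.iv HdM.R HdM.L G ∨ Pr HdH.iv HdH.R HdH.L G := by
  obtain ⟨y, _, _, hy, ⟨rfl, rfl⟩ | ⟨rfl, rfl⟩⟩ := hφ.exTy hz
  swap
  · exact .inr (.inr (hφ.prS hy))
  by_cases hi : Z φ i0
  · obtain ⟨x, _, _, hx, ⟨rfl, rfl⟩ | ⟨rfl, rfl⟩⟩ := hφ.tau.exTy (hi.tau' (by decide +kernel))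
    exacts [.inr (.inl (hφ.prLL hy hx)), .inr (.inr (hφ.tau.prS hx))]
  exact .inl ⟨φ, y, 1, hφ, hz, gam_iv _ _ (by decide +kernel) (.inl rfl),
    hy.rels hφ (R' := [([12, 13], 2)]) (.cons (by simpa [ev, gam, δ0] using hy.ny3 hφ) (.nil _)) (by decide +kernel),
    (hy.topL hφ hi (range_le_cl _ _ (by decide)) (mem_cl (x := 13) (by decide))).1⟩

theorem HT.main (hφ : HT φ) (hz : Z φ h0 ∨ Z φ i0) : Pr HdL.iv HdL.R HdL.L G ∨ Pr HdLL.iv HdLL.R HdLL.L G ∨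
    Pr HdM.iv HdM.R HdM.L G ∨ Pr HdH.iv HdH.R HdH.L G :=
  hz.elim hφ.main' fun h => hφ.tau.main' (h.tau' (by decide +kernel))

end Cfsg.Lib.Held
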