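import Cfsg.Agent.Lib.Held.G1
import Cfsg.Agent.Lib.JT.Id3

/-! # Held type: fusion of `z`, and the case `z ~ h`, `z ≁ i` -/

set_option autoImplicit false
set_option maxRecDepth 100000

namespace Cfsg.Lib.Held

open Subgroup Cfsg.Lib.Transfer

variable {G : Type*} [Group G] {φ : HH →* G} {M : Subgroup G}

theorem Z.rep {k : HH} (h : Z φ k) (j : ℕ) (e : cl k = j) (hj : j < 9) : Z φ (rep j) := h.of (cls' j e hj)
theorem Z.cl {k : HH} (j : ℕ) (h : Z φ (Held.rep j)) (e : cl k = j) (hj : j < 9) : Z φ k := h.to (cls' j e hj)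
theorem Z.mulz {j : ℕ} (h : Z φ (Held.rep j)) (hj : j ∈ [2, 3, 7, 8]) : Z φ (Held.rep j * z0) :=
  h.cl j (by clear h; revert j; decide +kernel) (by clear h; revert j; decide)
theorem Z.cases (hφ : HT φ) {j : ℕ} (h : Z φ (Held.rep j)) (hj : j < 9) : j = 1 ∨ j = 5 ∨ j ∈ [2, 3, 7, 8] := by
  interval_cases j
  any_goals decide
  exacts [absurd rfl (h.sq hφ).2, (hφ.not_t h).elim, (hφ.not_j2 h).elim]

theorem HT.prodZ (hφ : HT φ) (hf : ¬ Z φ f0) {k l : HH} (hk : Z φ k) (hl : Z φ l) (e : l * k = k * l ∧ l ≠ k) : Z φ (l * k) := by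
  obtain ⟨g, hg⟩ := hk
  obtain ⟨s, a⟩ := hφ.ex hg e.1
  have h9 := (inv_cls s).1 ((hl.to a).sq hφ).1
  have b := a.comp (cls h9).symm
  have c := hg.comp (Cj.ofz (wt s)).symm
  generalize cl s = j at *
  rcases (hl.to b).cases hφ h9 with rfl | rfl | hj
  exacts [absurd (b.inj hφ c) e.2, (hf (hl.to b)).elim, ((hl.to b).mulz hj).of (b.mul c)]

theorem HT.not_j34 (hφ : HT φ) (hf : ¬ Z φ f0) : (¬ Z φ h0 → ¬ Z φ j3) ∧ (¬ Z φ i0 → ¬ Z φ j4) :=
  ⟨fun hh h => hh ((show j3 * (j3 * h0) = h0 by decide +kernel) ▸ hφ.prodZ hf (h.cl 7 (by decide +kernel) (by decide)) h (by decide +kernel)),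
    fun hi h => hi ((show j4 * (j4 * i0) = i0 by decide +kernel) ▸ hφ.prodZ hf (h.cl 8 (by decide +kernel) (by decide)) h (by decide +kernel))⟩

theorem HT.hi (hφ : HT φ) {k : HH} (hk : Z φ k) (hne : k ≠ z0) : Z φ h0 ∨ Z φ i0 := by
  by_contra! ⟨hh, hi⟩
  have hf : ¬ Z φ f0 := fun hf => by
    obtain ⟨g, j, h1, h2, h3, h4⟩ := hφ.back hf (by decide +kernel)
    rcases (Z.z.to h4).cases hφ h1 with rfl | rfl | hj
    · omega
    swap
    · exact hφ.not_j2 (((Z.z.to h4).mulz hj).of ((h4.mul h3).cast (by decide +kernel) rfl))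
    obtain ⟨s, a⟩ := hφ.ex (k := e0 * c0) h3 (by decide +kernel)
    have a := (a.mul a).cast (k' := h0) (by decide +kernel) rfl
    have hw : Z φ (s * s * z0) := (hf.cl 5 (by decide +kernel) (by decide)).to (a.mul h3)
    have h9 := (inv_cls _).1 (hw.sq hφ).1
    have b := (cls (φ := φ) h9).symm
    have c := (b.mul (Cj.ofz _).symm).cast (k' := s * s) (by rw [mul_assoc, show z0 * z0 = 1 by decide +kernel, mul_one]) rfl
    generalize wt (s * s * z0) = w at *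
    generalize cl (s * s * z0) = j at *
    rcases (hw.to b).cases hφ h9 with rfl | rfl | hj
    · exact (a.comp c).ne_one hφ (by decide +kernel) (by decide +kernel)
    · have d : Cj φ (φ w)⁻¹ s (w⁻¹ * s * w⁻¹⁻¹) := φ.map_inv w ▸ .self w⁻¹ s
      exact sq_j2 _ (((d.mul d).uniq hφ c).trans (by decide +kernel))
    · exact hh (((hw.to b).mulz hj).of (a.comp c))
  obtain ⟨g, j, h1, h2, -, h4⟩ := hφ.back hk hne
  have h := Z.z.to h4
  rcases h.cases hφ h1 with rfl | rfl | hj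
  · omega
  · exact hf h
  simp only [List.mem_cons, List.not_mem_nil, or_false] at hj
  rcases hj with rfl | rfl | rfl | rfl
  exacts [hh h, hi h, (hφ.not_j34 hf).1 hh h, (hφ.not_j34 hf).2 hi h]

theorem V1_comm {k l : HH} (hk : k ∈ V1) (hl : l ∈ V1) : l * k = k * l := by
  have h := (mem_V1 k).1 hk
  have := pw_mem (K := cc k) (l := [a0, e0, h0, z0]) (by
    simp only [List.forall_mem_cons]; exact ⟨h.2.1.symm, h.2.2.symm, ((mem_C1 k).1 h.1).symm, (z0_comm k).symm, by simp⟩) (sh l.n 1 15)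
  rwa [((V1_cl l).2 hl).2] at this

variable [Finite G]

theorem HT.hi_simple [IsSimpleGroup G] (hφ : HT φ) : Z φ h0 ∨ Z φ i0 := by
  have hz := hφ.oz (k := z0) (by decide +kernel) (by decide +kernel)
  obtain ⟨P, hP⟩ := hφ.sylT.exists_sylow_top
  obtain ⟨g, hg, hn⟩ := JT.not_wc hz (by
    by_contra! hc
    rcases (show (zpowers (φ z0)).Normal from ⟨by
      rintro _ ⟨n, rfl⟩ g
      exact ⟨n, by rw [← conj_zpow, hc, mul_inv_cancel_right]⟩⟩).eq_bot_or_eq_top with e | e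
    · rw [zpowers_eq_bot.1 e] at hz; simp at hz
    · have := Nat.card_le_card_of_injective φ hφ.inj
      rw [card_HH, ← card_top, ← e, Nat.card_zpowers, hz] at this
      omega) P (by change φ z0 ∈ (P : Subgroup G); rw [hP]; exact mem_map_of_mem φ (by decide +kernel))
  obtain ⟨k, -, e⟩ : g * φ z0 * g⁻¹ ∈ TT.map φ := hP ▸ hg
  exact hφ.hi (Z.z.to (g := g) e.symm) fun e' => hn (e' ▸ e.symm)

theorem Y0.topL (hφ : HT φ) {y : G} (h : Y0 φ y a0 b0) (hi : ¬ Z φ i0) (hM : φ.range ≤ M) (hy : y ∈ M) :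
    M = ⊤ ∧ (V1.map φ).Normal := by
  have hf : ¬ Z φ f0 := fun e => hi ((h.fu hM hy).2.1.symm.zz e)
  have zV : ∀ {k}, Z φ k → k ∈ V1 := fun {k} hk => by
    have h9 := (inv_cls k).1 (hk.sq hφ).1
    have e := hk.rep _ rfl h9
    rw [(V1_cl k).1]
    generalize cl k = j at *
    interval_cases j
    any_goals decide
    exacts [(hi e).elim, (hφ.not_t e).elim, (hf e).elim, (hφ.not_j2 e).elim, (hφ.not_t ((h.fuL hM hy).symm.zz e)).elim,
      ((hφ.not_j34 hf).2 hi e).elim]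
  have Vz : ∀ {k}, k ∈ V1 → k ≠ 1 → Fu φ M k z0 := fun {k} hk h1 => by
    have h2 := (V1_cl k).1.1 hk
    have e := Fu.cls hM k _ rfl (by omega)
    generalize cl k = j at *
    interval_cases j
    exacts [let ⟨_, _, e⟩ := e; absurd rfl (e.ne_one hφ h1), e, e.trans (h.fu hM hy).1]
  have sc : ∀ {g k l}, k ∈ V1 → Cj φ g k l → l ∈ V1 := fun {g k l} hk e => by
    by_cases h1 : k = 1
    · rw [(e.cast h1 rfl).uniq hφ (.one g)]; exact one_mem _
    · exact zV ((Vz hk h1).z.to e)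
  have nv : ∀ {g v}, v ∈ V1 → Cj φ g v z0 → g ∈ normalizer (V1.map φ : Set G) := fun {g v} hv e => mem_normalizer_fintype (by
    rintro _ ⟨k, hk, rfl⟩
    obtain ⟨l, a⟩ := hφ.ex e (V1_comm hv hk)
    exact ⟨l, sc hk a, Eq.symm a⟩)
  have zv : z0 ∈ V1 ∧ h0 ∈ V1 ∧ a0 ∈ V1 := by decide +kernel
  rcases top_of_sc (V := V1.map φ) hφ.sylT (map_mono fun k hk => ((V1_cl k).2 hk).1)
    (fun e => absurd (hφ.inj ((mem_bot.1 (e.le (mem_map_of_mem φ zv.1))).trans φ.map_one.symm)) (by decide +kernel))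
    (by rintro _ ⟨k, hk, rfl⟩ g ⟨l, -, e⟩; exact ⟨l, sc hk e.symm, e⟩)
    (by
      rintro _ ⟨k, hk, rfl⟩
      by_cases h1 : k = 1
      · simp [h1]
      · exact map_sq ((Vz hk h1).z.sq hφ).1)
    (by
      rintro _ ⟨k, hk, rfl⟩ h1 c hc
      obtain ⟨g, -, e⟩ := Vz hk (by rintro rfl; simp at h1)
      exact (mul_mem_cancel_left (nv hk e)).1 (nv hk ((Cj.of_eq (mem_centralizer_singleton_iff.1 hc)).comp e))) with e | ⟨N, n1, -, n3, n4, n5⟩
  · refine ⟨eq_top_iff.2 fun g _ => ?_, normalizer_eq_top_iff.1 e⟩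
    obtain ⟨l, hl, a⟩ := (Nm.of (e.ge (mem_top g))).1 _ zv.1
    obtain ⟨m, hm, b⟩ := Vz hl (a.ne_one hφ (by decide +kernel))
    exact (mul_mem_cancel_left hm).1 (hM (hφ.mem' (a.comp b)))
  exfalso
  obtain ⟨g, hg, e⟩ := n4 _ (n1 (mem_map_of_mem φ zv.2.1)) _ (n1 (mem_map_of_mem φ zv.1)) (hφ.oz (by decide +kernel) (by decide +kernel))
    (hφ.oz (by decide +kernel) (by decide +kernel))
  obtain ⟨k, ek⟩ := hφ.mem' (h.yh.symm.comp e)
  have gf := h.yf.comp (.self k i0)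
  rw [ek, inv_mul_cancel_right] at gf
  have hv := V2_f _ (V2_i k)
  generalize k * i0 * k⁻¹ = v at gf hv
  have hw : φ (v * f0) ∈ N := by
    have := mul_mem hg (n3 _ (nv zv.1 (.ofz f0)) _ (inv_mem hg))
    rwa [← mul_assoc, ← mul_assoc, gf, inv_eq_of_mul_eq_one_left (map_sq (φ := φ) (k := f0) (by decide +kernel)), ← map_mul] at this
  have key : ∀ {l}, φ l ∈ N → l * l = 1 ∧ (a0 * l) ^ 4 = 1 ∧ a0 * l ≠ l * a0 → False := fun hl e =>
    e.2.2 (hφ.of_cj (.of_eq (n5 _ (n1 (mem_map_of_mem φ zv.2.2)) _ hl (map_sq (by decide +kernel)) (map_sq e.1)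
      (by rw [← map_mul, ← map_pow, e.2.1, map_one]))))
  rcases hv with e | e
  exacts [key (l := i0) (by rw [← e, map_mul]; exact mul_mem hw hw) (by decide +kernel), key hw e]

end Cfsg.Lib.Held
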