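import Cfsg.Agent.Lib.Held.Iso
import Cfsg.Agent.Lib.Held.Ex

/-! # Held's theorem -/

set_option autoImplicit false
set_option maxRecDepth 100000

namespace Cfsg.Lib.Held

open Subgroup Cfsg.Lib.Comp

instance finite_He : Finite Spor.He := Nat.finite_of_card_ne_zero (by rw [card_He]; decide)
instance finite_M24 : Finite Cfsg.M24 := Nat.finite_of_card_ne_zero (by rw [card_M24]; decide)

variable {G : Type*} [Group G]

theorem pr_He : Pr HdH.iv HdH.R HdH.L Spor.He := by
  obtain ⟨φ, h⟩ := ht_He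
  have := simple_He
  rcases h.main h.hi_simple with a | a | a | a
  exacts [absurd (card_He ▸ a.card HdL.ord) (by decide), absurd (card_He ▸ a.card HdLL.ord) (by decide),
    absurd (card_He ▸ a.card HdM.ord) (by decide), a]
theorem iso_He (h : Pr HdH.iv HdH.R HdH.L G) : Nonempty (G ≃* Spor.He) := pr_He.iso h HdH.ord card_He (by decide)
theorem cardHe (h : Pr HdH.iv HdH.R HdH.L G) : Nat.card G = 4030387200 :=
  let ⟨e⟩ := iso_He h; (Nat.card_congr e.toEquiv).trans card_He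

theorem pr_M24 : Pr HdM.iv HdM.R HdM.L Cfsg.M24 := by
  obtain ⟨φ, h⟩ := ht_M24
  have := simple_M24
  rcases h.main h.hi_simple with a | a | a | a
  exacts [absurd (card_M24 ▸ a.card HdL.ord) (by decide), absurd (card_M24 ▸ a.card HdLL.ord) (by decide), a,
    absurd (card_M24.symm.trans (cardHe a)) (by decide)]
theorem iso_M24 (h : Pr HdM.iv HdM.R HdM.L G) : Nonempty (G ≃* Cfsg.M24) := pr_M24.iso h HdM.ord card_M24 (by decide)
theorem cardM24 (h : Pr HdM.iv HdM.R HdM.L G) : Nat.card G = 244823040 :=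
  let ⟨e⟩ := iso_M24 h; (Nat.card_congr e.toEquiv).trans card_M24

theorem pr_SL5 : Pr HdLL.iv HdLL.R HdLL.L SL5 := by
  rcases ht_toS.main (.inl (Z_iff.2 conj_toS)) with a | a | a | a
  exacts [absurd (card_SL5 ▸ a.card HdL.ord) (by decide), a, absurd (card_SL5.symm.trans (cardM24 a)) (by decide),
    absurd (card_SL5.symm.trans (cardHe a)) (by decide)]
theorem iso_SL5 (h : Pr HdLL.iv HdLL.R HdLL.L G) : Nonempty (G ≃* SL5) := pr_SL5.iso h HdLL.ord card_SL5 (by decide)

theorem pr_St : Pr HdL.iv HdL.R HdL.L St := by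
  rcases ht_toSt.main (.inl (Z_iff.2 conj_toSt)) with a | a | a | a
  exacts [a, let ⟨e⟩ := iso_SL5 a; absurd (card_St.symm.trans ((Nat.card_congr e.toEquiv).trans card_SL5)) (by decide),
    absurd (card_St.symm.trans (cardM24 a)) (by decide), absurd (card_St.symm.trans (cardHe a)) (by decide)]
theorem iso_St (h : Pr HdL.iv HdL.R HdL.L G) : Nonempty (G ≃* St) := pr_St.iso h HdL.ord card_St (by decide)

theorem not_simple_St : ¬ IsSimpleGroup St := fun _ => by
  have hi := mt Z_iff.1 not_conj_toSt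
  obtain ⟨y, _, _, hy, ⟨rfl, rfl⟩ | ⟨rfl, rfl⟩⟩ := ht_toSt.exTy (Z_iff.2 conj_toSt)
  · rcases (hy.topL ht_toSt hi le_top (mem_top y)).2.eq_bot_or_eq_top with e | e
    · exact absurd (ht_toSt.inj ((mem_bot.1 (e.le (mem_map_of_mem toSt (show z0 ∈ V1 by decide +kernel)))).trans toSt.map_one.symm))
        (by decide +kernel)
    · obtain ⟨k, hk, e⟩ := e.ge (mem_top (toSt b0))
      rw [ht_toSt.inj e] at hk
      exact absurd hk (show b0 ∉ V1 by decide +kernel)
  · exact hi (hy.fuS' le_top (mem_top y)).z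

variable [Finite G] {φ : HH →* G}

theorem HT.four (hφ : HT φ) (hz : Z φ h0 ∨ Z φ i0) :
    Nonempty (G ≃* St) ∨ Nonempty (G ≃* SL5) ∨ Nonempty (G ≃* Cfsg.M24) ∨ Nonempty (G ≃* Spor.He) :=
  (hφ.main hz).imp iso_St (.imp iso_SL5 (.imp iso_M24 iso_He))

theorem HT.three [IsSimpleGroup G] (hφ : HT φ) : Nonempty (G ≃* SL5) ∨ Nonempty (G ≃* Cfsg.M24) ∨ Nonempty (G ≃* Spor.He) :=
  (hφ.four hφ.hi_simple).resolve_left fun ⟨e⟩ => not_simple_St e.symm.isSimpleGroup

theorem isoHe_of_card [IsSimpleGroup G] (hφ : HT φ) (h : Nat.card G = 4030387200) : Spor.IsoHe G := by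
  rcases hφ.three with ⟨⟨e⟩⟩ | ⟨⟨e⟩⟩ | e
  exacts [absurd (h.symm.trans ((Nat.card_congr e.toEquiv).trans card_SL5)) (by decide),
    absurd (h.symm.trans ((Nat.card_congr e.toEquiv).trans card_M24)) (by decide), e]

end Cfsg.Lib.Held
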