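import Cfsg.Agent.Lib.Held.Y1
import Cfsg.Agent.Lib.Held.F2
import Cfsg.Agent.Lib.Comp.HdL.Main
import Cfsg.Agent.Lib.Comp.HdLL.Main
import Cfsg.Agent.Lib.Comp.HdM.Main
import Cfsg.Agent.Lib.Comp.HdH.Main
import Cfsg.Agent.Lib.Comp.HdLc.Main
import Cfsg.Agent.Lib.Comp.HdSc.Main

/-! # Held type: presentations -/

set_option autoImplicit false
set_option maxRecDepth 100000

namespace Cfsg.Lib.Held

open Subgroup Cfsg.Lib.Comp

variable {G : Type*} [Group G] {φ : HH →* G}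

def δ0 (i : ℕ) : HH := [1, a0, b0, c0, d0, e0, f0, g0, h0, i0, z0, m0, n0].getD i 1
def gam (φ : HH →* G) (p q : G) (i : ℕ) : G := if i ≤ 12 then φ (δ0 i) else [p, p⁻¹, q, q⁻¹].getD (i - 13) 1

theorem gam_le {p q : G} {i : ℕ} (h : i ≤ 12) : gam φ p q i = φ (δ0 i) := if_pos h
theorem ev_gam {p q : G} {w : List ℕ} (h : ∀ x ∈ w, x ≤ 12) : ev (gam φ p q) w = φ (ev δ0 w) := by
  rw [ev_map]; exact ev_congr _ fun x hx => gam_le (h x hx)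

theorem gam_iv {iv : ℕ → ℕ} (p q : G) (h : ∀ x < 64, iv x < 64 ∧ ((x ≤ 12 ∧ iv x = x ∧ δ0 x * δ0 x = 1) ∨
    (x, iv x) ∈ [(13, 14), (14, 13), (15, 16), (16, 15)] ∨ (17 ≤ x ∧ iv x = x) ∨ (x, iv x) ∈ [(15, 15), (16, 16)]))
    (hq : q = 1 ∨ (iv 15 = 16 ∧ iv 16 = 15)) : IvOK (gam φ p q) iv := by
  refine ⟨φ.map_one, fun x hx => ⟨(h x hx).1, ?_⟩⟩
  rcases (h x hx).2 with ⟨h1, h2, h3⟩ | e | ⟨h1, e⟩ | e
  · rw [h2, gam_le h1]; exact eq_inv_of_mul_eq_one_left (map_sq h3)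
  · simp only [List.mem_cons, List.not_mem_nil, or_false, Prod.ext_iff] at e
    rcases e with ⟨rfl, e⟩ | ⟨rfl, e⟩ | ⟨rfl, e⟩ | ⟨rfl, e⟩ <;> rw [e] <;> simp [gam]
  · rw [e, gam, if_neg (by omega), List.getD_eq_default _ _ (by simp; omega), inv_one]
  · simp only [List.mem_cons, List.not_mem_nil, or_false, Prod.ext_iff] at e
    rcases e with ⟨rfl, e⟩ | ⟨rfl, e⟩ <;> rcases hq with rfl | hq <;> first | omega | (rw [e]; simp [gam])

/-- images of the letters under `y` -/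
def im (α β : HH) (j : ℕ) : HH := [1, α, β, g0, 1, c3⁻¹ * α * c3, i0, c0 * g0, z0, f0 * i0, h0 * z0, β * c3].getD j 1
def sg (j : ℕ) : ℕ := [0, 4, 3, 2, 1, 7, 6, 5, 9, 8, 10, 12, 11].getD j 0

theorem Y0.ye {y : G} {α β : HH} (h : Y0 φ y α β) : Cj φ y e0 (c3⁻¹ * α * c3) :=
  ((h.yc.inv.mul h.ya).mul h.yc).cast (by decide +kernel) rfl
theorem Y0.im {y : G} {α β : HH} (h : Y0 φ y α β) : ∀ j ∈ [1, 2, 3, 5, 6, 7, 8, 9, 10, 11], Cj φ y (δ0 j) (im α β j) := by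
  simp only [List.forall_mem_cons]
  exact ⟨h.ya, h.yb, h.yc0, h.ye, h.yf, h.yg, h.yh, h.yi, h.yz, (h.yb.mul h.yc).cast (by decide +kernel) rfl, by simp⟩
theorem Cj.tau {g : G} {k l k' l' : HH} (h : Cj (φ.comp τ) g k l) (e : τ k = k') (e' : τ l = l') : Cj φ g k' l' := e ▸ e' ▸ h
theorem Y0.imx {x : G} {α β : HH} (h : Y0 (φ.comp τ) x α β) :
    ∀ j ∈ [2, 3, 4, 5, 6, 7, 8, 9, 10, 12], Cj φ x (δ0 j) (τ (Held.im α β (sg j))) := fun j hj =>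
  (h.im (sg j) (by revert j; decide)).tau (by revert j; decide +kernel) rfl

def okH (r : List ℕ × ℕ) : Prop := (∀ x ∈ r.1, x ≤ 12) ∧ ev δ0 r.1 ^ (r.2 + 1) = 1
def okY (p : ℕ) (J : List ℕ) (f : ℕ → HH) (r : List ℕ × ℕ) : Prop := r.2 = 0 ∧ r.1 = p :: r.1.getD 1 0 :: (p + 1) :: r.1.drop 3 ∧
  r.1.getD 1 0 ∈ J ∧ r.1.getD 1 0 ≤ 12 ∧ (∀ x ∈ r.1.drop 3, x ≤ 12) ∧ f (r.1.getD 1 0) * ev δ0 (r.1.drop 3) = 1
instance (r : List ℕ × ℕ) : Decidable (okH r) := inferInstanceAs (Decidable (_ ∧ _))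
instance (p : ℕ) (J : List ℕ) (f : ℕ → HH) (r : List ℕ × ℕ) : Decidable (okY p J f r) := inferInstanceAs (Decidable (_ ∧ _))

theorem okH.rel {p q : G} {r : List ℕ × ℕ} (h : okH r) : ev (gam φ p q) r.1 ^ (r.2 + 1) = 1 := by
  rw [ev_gam h.1, ← map_pow, h.2, map_one]
theorem okY.rel {p q g : G} {n : ℕ} {J : List ℕ} {f : ℕ → HH} {r : List ℕ × ℕ} (h : okY n J f r) (h1 : gam φ p q n = g)
    (h2 : gam φ p q (n + 1) = g⁻¹) (hJ : ∀ j ∈ J, Cj φ g (δ0 j) (f j)) : ev (gam φ p q) r.1 ^ (r.2 + 1) = 1 := by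
  obtain ⟨a, b, c, d, e, k⟩ := h
  rw [a, b, zero_add, pow_one, ev_cons, ev_cons, ev_cons, h1, h2, gam_le d, ev_gam e, ← mul_assoc, ← mul_assoc, hJ _ c, ← map_mul, k, map_one]

def RY : List (List ℕ × ℕ) := [([13], 2), ([4, 13], 1), ([13, 14], 0)]
theorem YD.rels (hφ : HT φ) {y : G} {α β : HH} (h : YD φ y α β) {R R' : List (List ℕ × ℕ)} (h' : Rels (gam φ y 1) R')
    (hR : ∀ r ∈ R, okH r ∨ okY 13 [1, 2, 3, 5, 6, 7, 8, 9, 10, 11] (im α β) r ∨ r ∈ RY ++ R') : Rels (gam φ y 1) R := fun r hr => by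
  rcases hR r hr with a | a | a
  · exact a.rel
  · exact a.rel (g := y) rfl rfl h.im
  refine Rels.append ?_ h' r a
  simp only [Rels, RY, List.forall_mem_cons, ev_cons, ev_nil, mul_one]
  exact ⟨(pow_three' y).trans (h.y3 hφ), (sq _).trans ((mul_assoc _ _ _).symm.trans h.yd), by simp [gam], by simp⟩

theorem range_le_cl (p q : G) {L : List ℕ} (hL : ∀ i ∈ [1, 2, 3, 4, 5, 6, 7, 8, 9, 10, 11, 12], i ∈ L) : φ.range ≤ Comp.cl (gam φ p q) L := by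
  rintro _ ⟨k, rfl⟩
  refine eq_top_of_gens (K := (Comp.cl (gam φ p q) L).comap φ) (fun g hg => ?_) k
  obtain ⟨i, hi, rfl⟩ := List.mem_map.1 (show g ∈ [1, 2, 3, 4, 5, 6, 7, 8, 9, 10, 11, 12].map δ0 from hg)
  have := mem_cl (γ := gam φ p q) (hL i hi)
  rwa [gam_le (by clear this hg hL; revert i; decide)] at this

theorem YD.not5 (hφ : HT φ) {y : G} (h : YD φ y aS bS) : (φ n0 * y) ^ 5 ≠ φ (b0 * e0 * i0) ∧ (φ n0 * y) ^ 5 ≠ φ (e0 * i0 * z0) := by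
  have key : ∀ w : List ℕ, (∀ x ∈ w, x ≤ 12) → ∀ k, k * ev δ0 w = 1 →
      Mem HdSc.iv ([([12, 13, 12, 13, 12, 13, 12, 13, 12, 13] ++ w, 0)] ++ HdSc.R)
      ([1, 2, 3, 4, 5, 6, 7, 8, 9, 10, 11, 12].map fun x => [x]) [[13]] → (φ n0 * y) ^ 5 ≠ φ k := fun w hw k hk hr e => by
    have := hr G (gam φ y 1) φ.range (gam_iv _ _ (by decide +kernel) (.inl rfl)) (Rels.append (.cons (by
      rw [ev_append, ev_gam hw, show ev (gam φ y 1) [12, 13, 12, 13, 12, 13, 12, 13, 12, 13] = (φ n0 * y) ^ 5 by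
        simp [ev, gam, δ0, pow_succ, mul_assoc], e, ← map_mul, hk, map_one, one_pow]) (.nil _))
      (h.rels hφ (.nil _) (by decide +kernel))) (fun v hv => by
        obtain ⟨i, hi, rfl⟩ := List.mem_map.1 hv
        rw [ev_single, gam_le (by revert i; decide)]; exact ⟨_, rfl⟩) [13] (by simp)
    obtain ⟨k, rfl⟩ : ∃ k, φ k = y := by simpa [ev, gam] using this
    exact absurd (h.yz.uniq hφ (.ofz k)) (by decide +kernel)
  exact ⟨key [9, 5, 2] (by decide) _ (by decide +kernel) HdSc.c0, key [10, 9, 5] (by decide) _ (by decide +kernel) HdSc.c1⟩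

theorem YD.not3 (hφ : HT φ) {y : G} (h : YD φ y a0 b0) : (φ n0 * y) ^ 3 ≠ φ e0 := fun e => by
  have := HdLc.c0 G (gam φ y 1) (S4.map φ) (gam_iv _ _ (by decide +kernel) (.inl rfl)) (Rels.append (.cons (by
      rw [show ev (gam φ y 1) [12, 13, 12, 13, 12, 13, 5] = (φ n0 * y) ^ 3 * φ e0 by
        simp [ev, gam, δ0, pow_succ, mul_assoc], e, map_sq (by decide +kernel), one_pow]) (.nil _))
      (h.rels hφ (.nil _) (by decide +kernel))) (fun v hv => by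
        obtain ⟨i, hi, rfl⟩ := List.mem_map.1 hv
        rw [ev_single, gam_le (by revert i; decide)]
        exact mem_map_of_mem φ (S4_mem.1 _ (List.mem_map_of_mem (f := δ0) hi))) [10] (by simp)
  obtain ⟨k, hk, e⟩ : φ z0 ∈ S4.map φ := by simpa [ev, gam, δ0] using this
  exact S4_mem.2 (hφ.inj e ▸ hk)

end Cfsg.Lib.Held
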