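import Cfsg.Agent.Lib.Held.B1

/-! # Held type: the element `y` of order three normalising `⟨z, h⟩` -/

set_option autoImplicit false
set_option maxRecDepth 100000

namespace Cfsg.Lib.Held

open Subgroup

variable {G : Type*} [Group G] {φ : HH →* G}

structure Y0 (φ : HH →* G) (y : G) (α β : HH) : Prop where
  ya : Cj φ y a0 α
  yb : Cj φ y b0 β
  yc : Cj φ y c3 c3
  yh : Cj φ y h0 z0
  yz : Cj φ y z0 (h0 * z0)
  yf : Cj φ y f0 i0
  yi : Cj φ y i0 (f0 * i0)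

structure YD (φ : HH →* G) (y : G) (α β : HH) : Prop extends Y0 φ y α β where
  yd : φ d0 * y * φ d0 * y = 1

variable {y : G} {α β : HH}

theorem Y0.yc0 (h : Y0 φ y α β) : Cj φ y c0 g0 := ((h.yc.mul h.yf).mul h.yc.inv).cast (by decide +kernel) (by decide +kernel)
theorem Y0.yg (h : Y0 φ y α β) : Cj φ y g0 (c0 * g0) := ((h.yc.mul h.yi).mul h.yc.inv).cast (by decide +kernel) (by decide +kernel)
theorem Y0.w (h : Y0 φ y α β) {k : HH} (hk : k ∈ R2) : Cj φ y k (om k) :=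
  (Cj.pw (.cons h.yh (.cons h.yz (.cons h.yf (.cons h.yi (.cons h.yc0 (.cons h.yg .nil)))))) (b2 k)).cast (R2_eq k hk).1 rfl

theorem HT.inR2 (hφ : HT φ) {g : G} (hz : Cj φ g z0 z0) (hf : Cj φ g f0 f0) (hc : Cj φ g c0 c0) (hg : Cj φ g g0 g0) :
    ∃ k ∈ R2, φ k = g := by
  obtain ⟨k, rfl⟩ := hφ.mem' hz
  exact ⟨k, (mem_R2 k).2 ⟨hφ.of_cj hf, hφ.of_cj hc, hφ.of_cj hg⟩, rfl⟩

theorem Y0.y3 (hφ : HT φ) (h : Y0 φ y α β) : y * y * y = 1 := by
  have key : ∀ k ∈ R2, om k ∈ R2 → om (om k) ∈ R2 → om (om (om k)) = k → Cj φ (y * y * y) k k := fun k h1 h2 h3 h4 =>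
    mul_assoc y y y ▸ (((h.w h1).comp (h.w h2)).comp (h.w h3)).cast rfl h4
  obtain ⟨k, hk, e⟩ := hφ.inR2 (g := y * y * y) (by apply key <;> decide +kernel) (by apply key <;> decide +kernel)
    (by apply key <;> decide +kernel) (by apply key <;> decide +kernel)
  rw [← e, (R2_eq k hk).2.1 ((h.w hk).uniq hφ (.of_eq (by rw [e]; group))), map_one]

theorem Y0.shift (h : Y0 φ y α β) (ha : α ∈ C1) (hb : β ∈ C1) : Y0 φ (φ (h0 * z0) * y) α β := by
  have key : ∀ {k l}, Cj φ y k l → l ∈ C1 → Cj φ (φ (h0 * z0) * y) k l := fun {k l} a hl => a.comp (.of _ (by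
    rw [mul_assoc, ← z0_comm, ← mul_assoc, ← ((mem_C1 l).1 hl : l * h0 = _), mul_assoc]))
  exact ⟨key h.ya ha, key h.yb hb, key h.yc (by decide +kernel), key h.yh (by decide +kernel), key h.yz (by decide +kernel),
    key h.yf (by decide +kernel), key h.yi (by decide +kernel)⟩

theorem Y0.exD (hφ : HT φ) (h : Y0 φ y α β) (ha : α ∈ C1) (hb : β ∈ C1) : ∃ y, YD φ y α β := by
  have d2 : φ d0 * φ d0 = 1 := map_sq (by decide +kernel)
  have dd : ∀ t, φ d0 * (φ d0 * t) = t := fun t => by rw [← mul_assoc, d2, one_mul]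
  have key : ∀ k ∈ R2, d0 * om k * d0⁻¹ ∈ R2 → d0 * om (d0 * om k * d0⁻¹) * d0⁻¹ = k → Cj φ (φ d0 * y * φ d0 * y) k k := fun k h1 h2 h3 => by
    simpa only [mul_assoc] using ((((h.w h1).comp (.self d0 _)).comp (h.w h2)).comp (.self d0 _)).cast rfl h3
  obtain ⟨k, hk, e⟩ := hφ.inR2 (g := φ d0 * y * φ d0 * y) (by apply key <;> decide +kernel) (by apply key <;> decide +kernel)
    (by apply key <;> decide +kernel) (by apply key <;> decide +kernel)
  have dc : Cj φ (φ d0) c3 c3 := .of _ (by decide +kernel)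
  have h1 := (R2_eq k hk).2.2 (hφ.of_cj (by simpa only [e, mul_assoc] using ((h.yc.comp dc).comp h.yc).comp dc))
  have h2 : om k = d0 * k * d0 := (h.w hk).uniq hφ (.of_eq (by rw [map_mul, map_mul, e]; simp only [mul_assoc, dd]))
  simp only [List.mem_cons, List.not_mem_nil, or_false] at h1
  rcases h1 with rfl | rfl | rfl | rfl
  · exact ⟨y, h, e.symm.trans φ.map_one⟩
  · exact absurd h2 (by decide +kernel)
  · exact absurd h2 (by decide +kernel)
  refine ⟨_, h.shift ha hb, ?_⟩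
  have e1 : φ d0 * φ (h0 * z0) = φ h0 * φ d0 := (Cj.of d0 (by decide +kernel)).eq
  have e2 : φ (h0 * z0) * y = y * φ z0 := h.yz.eq.symm
  calc _ = φ d0 * φ (h0 * z0) * (y * φ d0 * (φ (h0 * z0) * y)) := by simp only [mul_assoc]
    _ = φ h0 * (φ d0 * y * φ d0 * y) * φ z0 := by rw [e1, e2]; simp only [mul_assoc]
    _ = 1 := by rw [← e, ← map_mul, ← map_mul, ← φ.map_one]; exact congrArg φ (by decide +kernel)

theorem YD.dy (hφ : HT φ) (h : YD φ y α β) {k l : HH} (a : Cj φ y k l) (e : d0 * k = k * d0) (hl : d0 * l * d0 * k ∈ R2) (k2 : k * k = 1) :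
    om (d0 * l * d0 * k) * l = k := by
  have d2 : d0 * d0 = 1 := by decide +kernel
  have h1 : Cj φ (φ d0 * y * φ d0) k (d0 * l * d0) := by
    simpa only [mul_assoc] using (((Cj.of d0 e).comp a).comp (.of d0 (by rw [mul_assoc, mul_assoc, d2, mul_one])) : Cj φ _ k (d0 * l * d0))
  rw [eq_inv_of_mul_eq_one_left h.yd] at h1
  exact ((h.w hl).mul a).rel hφ h1.symm' (by rw [mul_assoc, k2, mul_one])

variable [Finite G]

theorem HT.exY0 (hφ : HT φ) (hz : Z φ h0) : ∃ y α β, Y0 φ y α β ∧ α ∈ T1 ∧ β ∈ T1 := by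
  obtain ⟨u, hu, u1, u2⟩ := hφ.swap hz
  have hd : Nm φ T1 (φ d0) := by
    have : ∀ k ∈ T1, d0 * k * d0 ∈ T1 := by decide +kernel
    have d2 : d0 * d0 = 1 := by decide +kernel
    exact ⟨fun k hk => ⟨_, this k hk, .of _ (by rw [mul_assoc, d2, mul_one])⟩,
      fun k hk => ⟨_, this k hk, .of _ (by rw [← mul_assoc, ← mul_assoc, d2, one_mul])⟩⟩
  have wz : Cj φ (u * φ d0) z0 (h0 * z0) := (Cj.ofz d0).comp u2
  have wh : Cj φ (u * φ d0) h0 z0 := (Cj.of (l := h0 * z0) d0 (by decide +kernel)).comp ((u1.mul u2).cast rfl (by decide +kernel))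
  obtain ⟨l, hl⟩ := hφ.ex (k := c3) wh (by decide +kernel)
  have hl1 : l ∈ C1 := (mem_C1 l).2 (hl.comm hφ ((wh.mul wz).cast rfl (by decide +kernel)) (by decide +kernel))
  obtain ⟨s1, s2⟩ := three l hl1 (((hl.mul hl).mul hl).rel hφ (.one _) (by decide +kernel)) (hl.ne_one hφ (by decide +kernel))
  have hN := (Nm.self (φ := φ) s1).mul (hu.mul hd)
  have yc := hl.comp (.of _ s2)
  have sh : wt l * h0 = h0 * wt l := (mem_C1 _).1 ((mem_T1 _).1 s1).2
  have yz : Cj φ _ z0 (h0 * z0) := wz.comp (.of (wt l) (by rw [← mul_assoc, sh, mul_assoc, z0_comm, mul_assoc]))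
  have yh := wh.comp (.ofz (wt l))
  generalize φ (wt l) * (u * φ d0) = y at *
  obtain ⟨α, h1, ya⟩ := hN.1 a0 (by decide +kernel)
  obtain ⟨β, h2, yb⟩ := hN.1 b0 (by decide +kernel)
  obtain ⟨p, h3, yf⟩ := hN.1 f0 (by decide +kernel)
  obtain ⟨q, h4, yi⟩ := hN.1 i0 (by decide +kernel)
  have T : ∀ x ∈ [a0, b0, c0], x ∈ T1 := by decide +kernel
  obtain rfl := (img_f p h3 ((((yf.mul yc).mul (yf.mul yc)).mul (yf.mul yc)).rel hφ (.one _) (by decide +kernel))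
    (yf.ne_one hφ (by decide +kernel))).1 fun x hx => by
      obtain ⟨k, hk, e⟩ := hN.2 x (T x hx)
      exact (com_f k hk).1.imp ((yf.mul e).rel hφ (e.mul yf)) ((yf.mul e).rel hφ ((e.mul yf).mul yh))
  obtain rfl := (img_f q h4 ((((yi.mul yc).mul (yi.mul yc)).mul (yi.mul yc)).rel hφ (.one _) (by decide +kernel))
    (yi.ne_one hφ (by decide +kernel))).2 fun x hx => by
      obtain ⟨k, hk, e⟩ := hN.2 x (T x hx)
      exact (com_f k hk).2.imp ((yi.mul e).rel hφ (e.mul yi)) ((yi.mul e).rel hφ ((e.mul yi).mul yz))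
  exact ⟨y, α, β, ⟨ya, yb, yc, yh, yz, yf, yi⟩, h1, h2⟩

theorem HT.exYD (hφ : HT φ) (hz : Z φ h0) : ∃ y α β, YD φ y α β ∧ (α = a0 ∨ α = aS) ∧ (β = b0 ∨ β = bS) := by
  obtain ⟨y, α, β, h, h1, h2⟩ := hφ.exY0 hz
  obtain ⟨y, h⟩ := h.exD hφ ((mem_T1 _).1 h1).2 ((mem_T1 _).1 h2).2
  have ac := h.ya.mul h.yc
  have bc := h.yb.mul h.yc
  obtain ⟨a1, a2⟩ := img_a α h1 (h.ya.sq_one hφ (by decide +kernel)) (((ac.mul ac).mul ac).rel hφ (.one _) (by decide +kernel))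
    ((h.ya.mul h.yf).rel hφ ((h.yf.mul h.yh).mul h.ya) (by decide +kernel))
    ((h.ya.mul h.yi).rel hφ ((h.yi.mul h.yz).mul h.ya) (by decide +kernel))
    (h.ya.comm hφ h.yc0 (by decide +kernel)) (h.ya.comm hφ h.yg (by decide +kernel))
  obtain ⟨b1, b2⟩ := img_b β h2 (h.yb.sq_one hφ (by decide +kernel)) (bc.sq_one hφ (by decide +kernel))
  exact ⟨y, α, β, h, a2 (h.dy hφ h.ya (by decide +kernel) a1 (by decide +kernel)), b2 (h.dy hφ h.yb (by decide +kernel) b1 (by decide +kernel))⟩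

end Cfsg.Lib.Held
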